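import Cfsg.Agent.Lib.LThreeFour.Data

/-!
Checks of the certificates of the cover of the projective linear group of dimension three over four elements.
-/

set_option autoImplicit false
set_option maxRecDepth 100000

namespace Cfsg.Lib.LThreeFour

open Cfsg.Lib.PermAut Cfsg.Lib.Concrete

theorem okG : subG.ok 9 511 = true := by decide +kernel

theorem okA : subA.ok 9 511 = true := by decide +kernel

theorem okT : subT.ok 9 511 = true := by decide +kernel

theorem okH : subH.ok 9 511 = true := by decide +kernel

theorem okC : subC.ok 9 511 = true := by decide +kernel

theorem sizes : subG.size = 967680 ∧ subA.size = 2160 ∧ subT.size = 27 ∧ subH.size = 216 ∧ subC.size = 8 := by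
  decide +kernel

theorem cosA_ok : cosA.ok 9 511 subA subT cosACert = true := by decide +kernel

theorem cosH_ok : cosH.ok 9 511 subH subC cosHCert = true := by decide +kernel

theorem cosG_ok : cosG.ok 9 511 subG subA cosGCert = true := by decide +kernel

theorem certA_ok : cosACert.check (xorVec cosACert.m) = true := by decide +kernel

theorem certG_ok : cosGCert.check (xorVec cosGCert.m) = true := by decide +kernel

theorem comA_ok : subA.perfB 9 511 (comA.getD 0 []) (comA.getD 1 []) (comA.getD 2 []) (comA.getD 3 []) = true := by
  decide +kernel

theorem comG_ok : subG.perfB 9 511 (comG.getD 0 []) (comG.getD 1 []) (comG.getD 2 []) (comG.getD 3 []) = true := by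
  decide +kernel

theorem pathH_ok : (pathOk subG.lev (pathH 0) && sameB 9 511 [subH.g0] (pickPath subG.lev (pathH 0)) &&
    pathOk subG.lev (pathH 1) && sameB 9 511 [subH.g1] (pickPath subG.lev (pathH 1))) = true := by decide +kernel

end Cfsg.Lib.LThreeFour
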