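import Cfsg.Agent.Lib.LThreeFour.Check

/-!
# The cover of degree 511 has no stem extensions
-/

set_option autoImplicit false
set_option maxRecDepth 8000
set_option linter.style.haveILetI false
set_option linter.unusedSimpArgs false

namespace Cfsg.Lib.LThreeFour

open Cfsg.Lib.PermAut Cfsg.Lib.Concrete

instance : NeZero 511 := ⟨by norm_num⟩

/-- The cover. -/
noncomputable abbrev Gam : Subgroup (Equiv.Perm (Fin 511)) := subG.grp 9 511

theorem validG : subG.Valid 9 511 := Sub.valid okG

theorem card_Gam : Nat.card Gam = 967680 := by rw [validG.card, sizes.1]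

theorem noStem_two_A : NoStem 2 ↥(subA.grp 9 511) := by
  haveI : Fact (Nat.Prime 2) := ⟨Nat.prime_two⟩
  have VH := Sub.valid (b := 9) (N := 511) okA
  have VL := Sub.valid (b := 9) (N := 511) okT
  exact Cos.noStem VH VL cosA_ok _ certA_ok (by rw [sizes.2.1, sizes.2.2.1]; rfl)
    (liftsAt_small Nat.prime_two VL (Cos.le VH VL cosA_ok) (by rw [sizes.2.2.1]; decide))

theorem noStem_two : NoStem 2 Gam := by
  haveI : Fact (Nat.Prime 2) := ⟨Nat.prime_two⟩
  have VH := validG
  have VL := Sub.valid (b := 9) (N := 511) okA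
  exact Cos.noStem VH VL cosG_ok _ certG_ok (by rw [sizes.1, sizes.2.1]; rfl)
    (liftsAt_perfect Nat.prime_two (Cos.le VH VL cosG_ok) (VL.perfect comA_ok) noStem_two_A)

section three

local instance : Fact (1 < 3) := ⟨by norm_num⟩

theorem certH_ok : cosHCert.check (digitVec 3 cosHCert.m) = true := by decide +kernel

theorem noStem_three : NoStem 3 Gam := by
  haveI : Fact (Nat.Prime 3) := ⟨Nat.prime_three⟩
  have VH := Sub.valid (b := 9) (N := 511) okH
  have VL := Sub.valid (b := 9) (N := 511) okC
  have hno : NoStem 3 ↥(subH.grp 9 511) :=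
    Cos.noStem VH VL cosH_ok _ certH_ok (by rw [sizes.2.2.2.1, sizes.2.2.2.2]; rfl)
      (liftsAt_small Nat.prime_three VL (Cos.le VH VL cosH_ok) (by rw [sizes.2.2.2.2]; decide))
  have hp := pathH_ok
  simp only [Bool.and_eq_true] at hp
  obtain ⟨⟨⟨p0, s0⟩, p1⟩, s1⟩ := hp
  have hle : subH.grp 9 511 ≤ Gam := by
    rw [Sub.grp, Subgroup.closure_le]
    rintro x (rfl | rfl)
    · exact validG.mem_of_same VH.g0 p0 s0
    · exact validG.mem_of_same VH.g1 p1 s1
  refine Cfsg.Lib.Schur.noStem_of_index_prime Nat.prime_three ((subH.grp 9 511).subgroupOf Gam)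
    (hno.of_equiv (Subgroup.subgroupOfEquivOfLe hle).symm) ?_
  have h := ((subH.grp 9 511).subgroupOf Gam).card_mul_index
  rw [Nat.card_congr (Subgroup.subgroupOfEquivOfLe hle).toEquiv, VH.card, card_Gam, sizes.2.2.2.1] at h
  omega

end three

theorem noStem_Gam (p : ℕ) (hp : p.Prime) : NoStem p Gam := by
  by_cases h2 : p = 2
  · subst h2; exact noStem_two
  by_cases h3 : p = 3
  · subst h3; exact noStem_three
  refine noStem_of_not_sq_dvd hp fun h => ?_
  rw [card_Gam, show (967680 : ℕ) = 2 ^ 10 * 3 ^ 3 * (5 * 7) by norm_num] at h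
  have hc : ∀ q k : ℕ, q.Prime → p ≠ q → Nat.Coprime (p ^ 2) (q ^ k) := fun q k hq hne =>
    Nat.Coprime.pow _ _ ((Nat.coprime_primes hp hq).2 hne)
  have hd := ((hc 2 10 Nat.prime_two h2).mul_right (hc 3 3 Nat.prime_three h3)).dvd_of_dvd_mul_left h
  have hle : p ^ 2 ≤ 5 * 7 := Nat.le_of_dvd (by norm_num) hd
  have hp6 : p < 6 := by nlinarith
  interval_cases p <;> first | omega | exact absurd hp (by norm_num) | exact absurd hd (by norm_num)

theorem perfect_Gam : commutator Gam = ⊤ := by
  refine Subgroup.map_injective Gam.subtype_injective ?_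
  rw [commutator_def, Subgroup.map_commutator, ← MonoidHom.range_eq_map, Subgroup.range_subtype,
    validG.perfect comG_ok]

/-- An element of the cover given by a generator. -/
noncomputable def gen (i : ℕ) : Gam := ⟨toP 9 511 (subG.gen i), Sub.gen_mem subG 9 511 i⟩

theorem gen_closure : Subgroup.closure (Set.range fun i : Fin 2 => gen i) = ⊤ := by
  refine top_le_iff.1 fun g _ => ?_
  have h1 : (g : Equiv.Perm (Fin 511)) ∈
      (Subgroup.closure (Set.range fun i : Fin 2 => gen i)).map Gam.subtype := by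
    rw [MonoidHom.map_closure]
    refine Subgroup.closure_mono ?_ g.2
    rintro x (rfl | rfl)
    · exact ⟨gen 0, ⟨0, rfl⟩, rfl⟩
    · exact ⟨gen 1, ⟨1, rfl⟩, rfl⟩
  obtain ⟨y, hy, hyg⟩ := h1
  exact (Subtype.ext hyg : y = g) ▸ hy

theorem gen_apply (i : ℕ) (x : Fin 511) : (((gen i : Gam) : Equiv.Perm (Fin 511)) x : ℕ) = ent 9 (subG.gen i) x :=
  validG.gen_rep i x

/-- The tables of the path of a central element. -/
def tauL (k : ℕ) : List ℕ := pickPath subG.lev (tauPath.getD k [])

/-- The orders of the central elements. -/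
def tauN (k : ℕ) : ℕ := if Nat.beq k 0 then 3 else 4

theorem tau_check : ((List.range 3).all fun k => pathOk subG.lev (tauPath.getD k []) &&
    sameB 9 511 (List.flatten (List.replicate (tauN k) (tauL k))) [] &&
    (List.range 2).all fun i => sameB 9 511 (tauL k ++ [subG.gen i]) (subG.gen i :: tauL k)) = true := by
  decide +kernel

theorem tau_path (k : Fin 3) : pathOk subG.lev (tauPath.getD k []) = true ∧
    sameB 9 511 (List.flatten (List.replicate (tauN k) (tauL k))) [] = true ∧
    ∀ i < 2, sameB 9 511 (tauL k ++ [subG.gen i]) (subG.gen i :: tauL k) = true := by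
  have h := tau_check
  simp only [List.all_eq_true, List.mem_range, Bool.and_eq_true] at h
  exact ⟨(h k k.isLt).1.1, (h k k.isLt).1.2, (h k k.isLt).2⟩

/-- A central element. -/
noncomputable def tau (k : Fin 3) : Gam := ⟨((tauL k).map (toP 9 511)).prod, validG.mem_of_path (tau_path k).1⟩

theorem tauL_rep (k : Fin 3) : ∀ T ∈ tauL k, Rep 9 (toP 9 511 T) T := validG.good_of_path (tau_path k).1

theorem tau_pow (k : Fin 3) : tau k ^ tauN k = 1 := by
  have e := eq_of_sameB (l := List.flatten (List.replicate (tauN k) (tauL k))) (l' := [])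
    (fun T hT => by
      obtain ⟨l, hl, hT⟩ := List.mem_flatten.1 hT
      rw [List.eq_of_mem_replicate hl] at hT
      exact tauL_rep k T hT) (by simp) (tau_path k).2.1
  simp only [List.map_flatten, List.prod_flatten, List.map_replicate, List.prod_replicate, List.map_nil,
    List.prod_nil] at e
  exact Subtype.ext e

theorem tau_comm (k : Fin 3) (g : Gam) : Commute (tau k) g := by
  have hi : ∀ i < 2, Commute (tau k) (gen i) := fun i hi => by
    have e := eq_of_sameB (l := tauL k ++ [subG.gen i]) (l' := subG.gen i :: tauL k)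
      (fun T hT => (List.mem_append.1 hT).elim (tauL_rep k T) fun h => (List.mem_singleton.1 h) ▸ validG.gen_rep i)
      (fun T hT => (List.mem_cons.1 hT).elim (fun e => e ▸ validG.gen_rep i) (tauL_rep k T)) ((tau_path k).2.2 i hi)
    simp only [List.map_append, List.prod_append, List.map_singleton, List.prod_singleton, List.map_cons,
      List.prod_cons] at e
    exact Subtype.ext e
  have hg : g ∈ Subgroup.closure (Set.range fun i : Fin 2 => gen i) := by rw [gen_closure]; trivial
  have hle : Subgroup.closure (Set.range fun i : Fin 2 => gen i) ≤ Subgroup.centralizer {tau k} := by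
    rw [Subgroup.closure_le]
    rintro x ⟨i, rfl⟩
    exact Subgroup.mem_centralizer_singleton_iff.2 (hi i i.isLt).eq.symm
  exact (Subgroup.mem_centralizer_singleton_iff.1 (hle hg)).symm

theorem tau_mem_center (k : Fin 3) : tau k ∈ Subgroup.center Gam :=
  Subgroup.mem_center_iff.2 fun g => (tau_comm k g).eq.symm

theorem tau_apply (k : Fin 3) (x : Fin 511) :
    (((tau k : Gam) : Equiv.Perm (Fin 511)) x : ℕ) = ev 9 (tauL k) x :=
  ev_rep (tauL_rep k) x

theorem kernel_check : ((List.range 3).all fun i => (List.range 4).all fun j => (List.range 4).all fun l =>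
    (Nat.beq i 0 && Nat.beq j 0 && Nat.beq l 0) ||
      !([0, 63, 287].all fun x => Nat.beq (ev 9 (List.flatten (List.replicate i (tauL 0)) ++
        (List.flatten (List.replicate j (tauL 1)) ++ List.flatten (List.replicate l (tauL 2)))) x) x)) = true := by
  decide +kernel

theorem kernel_faithful {i j l : ℕ} (hi : i < 3) (hj : j < 4) (hl : l < 4)
    (h : tau 0 ^ i * (tau 1 ^ j * tau 2 ^ l) = 1) : i = 0 ∧ j = 0 ∧ l = 0 := by
  have hc := kernel_check
  simp only [List.all_eq_true, List.mem_range, Bool.or_eq_true, Bool.and_eq_true, Nat.beq_eq, Bool.not_eq_true',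
    ← Bool.not_eq_true] at hc
  rcases hc i hi j hj l hl with h' | h'
  · exact ⟨h'.1.1, h'.1.2, h'.2⟩
  exfalso
  refine h' fun x hx => ?_
  have hx' : x < 511 := by fin_cases hx <;> norm_num
  set L : List ℕ := List.flatten (List.replicate i (tauL 0)) ++
        (List.flatten (List.replicate j (tauL 1)) ++ List.flatten (List.replicate l (tauL 2)))
  have hrep : ∀ T ∈ L, Rep 9 (toP 9 511 T) T := fun T hT => by
    simp only [L, List.mem_append, List.mem_flatten, List.mem_replicate] at hT
    rcases hT with ⟨_, ⟨-, rfl⟩, hT⟩ | ⟨_, ⟨-, rfl⟩, hT⟩ | ⟨_, ⟨-, rfl⟩, hT⟩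
    exacts [tauL_rep 0 T hT, tauL_rep 1 T hT, tauL_rep 2 T hT]
  have e := ev_rep hrep (⟨x, hx'⟩ : Fin 511)
  have hprod : (L.map (toP 9 511)).prod = ((tau 0 ^ i * (tau 1 ^ j * tau 2 ^ l) : Gam) : Equiv.Perm (Fin 511)) := by
    simp only [L, List.map_append, List.prod_append, List.map_flatten, List.prod_flatten, List.map_replicate,
      List.prod_replicate]
    rfl
  rw [hprod, h] at e
  exact e.symm

end Cfsg.Lib.LThreeFour
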