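import Cfsg.Agent.Lib.LThreeFour.Tables
import Cfsg.Agent.Lib.PermAut.SubStem

/-!
Certificate data for the cover of the projective linear group of dimension three over four elements.
-/

set_option autoImplicit false
set_option maxRecDepth 100000
set_option linter.style.longLine false

namespace Cfsg.Lib.LThreeFour

open Cfsg.Lib.PermAut Cfsg.Lib.Concrete

/-- The cover: tables. -/
def subGE : List ℕ := [t0, t1, t2, t3, t4, t5, t6, t7, t8, t9, t10, t11, t12, t13, t14, t15, t16, t17, t18, t19, t20, t21, t22, t23, t24, t25, t26, t27, t28, t29, t30, t31, t32, t33, t34, t35, t36, t37, t38, t39, t40, t41, t42, t43, t44, t45, t46, t47, t48, t49, t50, t51, t52, t53, t54, t55, t56, t57, t58, t59, t60, t61, t62, t63, t64, t65, t66, t67, t68, t69, t70, t71, t72, t73, t74, t75, t76, t77, t78, t79, t80, t81, t82, t83, t84, t85, t86, t87, t88, t89, t90, t91, t92, t93, t94, t95, t96, t97, t98,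 t99, t100, t101, t102, t103, t104, t105, t106, t107, t108, t109, t110, t111, t112, t113, t114, t115, t116, t117, t118, t119, t120, t121, t122, t123, t124, t125, t126, t127, t128, t129, t130, t131, t132, t133, t8, t134, t135, t136, t137, t138, t139, t140, t66, t141, t142, t143, t144, t72, t145, t146, t147, t148, t149, t150, t151, t152, t153, t154, t155, t156, t157, t158, t159, t160, t161, t162, t163, t164, t165, t166, t167, t168, t169, t170, t171, t172, t173, t174, t175, t176, t177, t178, t179, t180, t181, t182, t183, t184, t185, t186, t187, t188, t189, t190, t191, t192, t193, t194, t195, t196, t197, t198, t199, t200, t201, t202, t203, t204, t205, t206, t207, t208, t209, t210, t211, t212, t213, t214, t215, t216, t217, t218, t219, t220, t221, t222, t223, t224, t225, t226, t227, t228, t229, t230, t231, t232, t233, t234, t235, t236, t237, t238, t239, t240, t241, t242, t243, t244, t245,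 t246, t247, t248, t249, t250, t251, t252, t253, t254, t255, t256, t257, t258, t259, t260, t261, t262, t263, t264, t265, t266, t267, t268, t269, t270, t271, t272, t273, t274, t275, t276, t277, t278]

/-- The cover: levels. -/
def subGLev : List (List ℕ) := [[t279, t1, t5, t25, t280, t281, t249, t6, t282, t283, t144, t284, t285, t286, t287, t288, t289, t290, t291, t292, t293, t294, t295, t124, t242, t296, t297, t298, t299, t300, t301, t302, t303, t304, t305, t306, t307, t308, t309, t310, t311, t312, t313, t314, t315, t316, t317, t318, t319, t320, t321, t243, t322, t323, t324, t325, t326, t327, t328, t329, t330, t331, t332], [t279, t0, t2, t333, t334, t335, t336, t337, t338, t339, t340, t341, t342, t343, t344, t345, t346, t347, t348, t349, t350, t351, t352, t353, t354, t355, t356, t357, t358, t359, t360, t361, t362, t363, t364, t365, t366, t367, t368, t369, t370, t371, t372, t373, t374,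 t375, t376, t377, t378, t379, t380, t381, t382, t383, t384, t385, t386, t387, t388, t389, t390, t391, t392, t393], [t279, t236, t394, t395, t396, t397, t398, t399, t400, t401, t402, t403, t404, t262, t405, t406, t407, t408, t409, t410, t411, t412, t413, t414, t415, t416, t417, t418, t419, t420, t421, t422, t423, t424, t425, t426, t427, t428, t429, t430], [t279, t268, t278, t431, t432, t433]]

/-- The cover: products. -/
def subGClose : List (List (List (List ℕ))) := [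
  [[[0, 1, 0, 0], [2, 0, 0, 0], [6, 0, 0, 0], [5, 28, 14, 0], [13, 0, 0, 0], [14, 43, 22, 0], [1, 0, 0, 0], [23, 0, 0, 0], [27, 0, 0, 0], [29, 0, 0, 0], [31, 0, 0, 0], [35, 0, 0, 0], [20, 33, 39, 5], [39, 0, 0, 0], [3, 33, 12, 0], [42, 0, 0, 0], [44, 0, 0, 0], [24, 61, 27, 1], [19, 25, 4, 3], [46, 44, 26, 5], [48, 10, 5, 2], [11, 46, 8, 4], [15, 11, 38, 1], [33, 9, 28, 4], [51, 0, 0, 0], [50, 33, 1, 3], [36, 14, 36, 4], [41, 39, 25, 4], [10, 40, 12, 1], [30, 0, 38, 0], [9, 0, 36, 2], [28, 46, 7, 4], [45, 61, 28, 4], [7, 13, 10, 0], [25, 58, 10, 1], [21, 44, 0, 1], [40, 0, 12, 0], [49, 6, 35, 3], [58, 0, 0, 0], [4, 0, 0, 0], [26, 7, 26, 0], [8, 46, 35, 2], [22, 2, 29, 4], [37, 37, 4, 1], [47, 11, 16, 3], [55, 63, 34, 4], [18, 22, 23, 0], [16, 2, 8, 1], [12, 46, 29, 1], [43, 57, 37, 2], [34, 38, 24, 4], [17, 52, 20, 3], [38, 17, 31, 0], [54, 11, 30, 4], [61, 6, 31, 0], [32, 9, 23,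 5], [56, 15, 19, 3], [59, 35, 13, 3], [52, 10, 12, 2], [62, 36, 24, 5], [60, 0, 24, 5], [53, 59, 16, 1], [57, 49, 9, 2]], [[1, 0, 0, 0], [3, 0, 0, 0], [7, 0, 0, 0], [10, 0, 0, 0], [14, 0, 0, 0], [18, 0, 0, 0], [20, 0, 0, 0], [24, 0, 0, 0], [28, 0, 0, 0], [30, 0, 0, 0], [23, 1, 36, 5], [11, 49, 10, 1], [2, 45, 39, 5], [22, 42, 26, 4], [5, 55, 30, 5], [43, 0, 0, 0], [17, 32, 23, 1], [42, 56, 34, 1], [37, 42, 39, 3], [6, 13, 35, 2], [13, 44, 2, 4], [26, 33, 5, 1], [19, 25, 29, 5], [0, 2, 38, 1], [52, 0, 0, 0], [53, 0, 0, 0], [15, 9, 22, 5], [36, 9, 31, 2], [56, 0, 0, 0], [8, 23, 33, 3], [49, 26, 30, 4], [39, 26, 21, 3], [55, 62, 18, 1], [41, 23, 17, 1], [46, 33, 28, 0], [57, 12, 26, 0], [38, 27, 14, 4], [4, 17, 9, 2], [47, 0, 38, 5], [58, 62, 4, 5], [9, 2, 17, 5], [60, 0, 0, 0], [25, 31, 7, 1], [59, 2, 14, 4], [44, 37, 13, 3], [33, 50, 5, 5], [51, 49, 27, 2], [61, 22, 0, 0], [48, 45,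 10, 5], [50, 11, 3, 4], [40, 2, 29, 2], [32, 23, 37, 4], [12, 52, 10, 4], [16, 17, 16, 0], [45, 22, 35, 1], [34, 61, 29, 5], [62, 3, 18, 2], [31, 55, 29, 2], [35, 32, 18, 4], [21, 60, 20, 2], [54, 19, 6, 4], [27, 11, 26, 4], [29, 46, 28, 0]], [[0, 0, 1, 0], [4, 0, 0, 0], [8, 0, 0, 0], [11, 0, 0, 0], [15, 0, 0, 0], [17, 29, 14, 5], [21, 0, 0, 0], [25, 0, 0, 0], [14, 5, 24, 3], [18, 10, 11, 4], [32, 0, 0, 0], [36, 0, 0, 0], [38, 0, 0, 0], [12, 60, 9, 1], [34, 57, 18, 3], [31, 37, 39, 4], [45, 0, 0, 0], [47, 0, 0, 0], [28, 51, 29, 5], [1, 39, 34, 0], [3, 17, 10, 1], [29, 44, 25, 2], [7, 32, 19, 0], [2, 0, 8, 4], [6, 16, 26, 1], [54, 0, 0, 0], [35, 63, 4, 4], [43, 27, 6, 5], [57, 0, 0, 0], [44, 53, 1, 3], [13, 53, 32, 4], [19, 37, 21, 4], [49, 60, 29, 2], [9, 59, 28, 0], [23, 33, 11, 2], [52, 40, 8, 2], [53, 61, 28, 0], [30, 3, 12, 0], [37, 1, 31, 4], [59, 0, 0, 0], [42, 60, 34, 1],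 [61, 0, 0, 0], [27, 63, 27, 0], [62, 0, 0, 0], [24, 1, 32, 1], [48, 39, 3, 2], [5, 0, 16, 3], [58, 48, 32, 2], [39, 63, 14, 2], [41, 61, 10, 1], [55, 28, 6, 0], [22, 0, 39, 5], [50, 40, 28, 2], [20, 6, 27, 3], [51, 46, 33, 2], [26, 6, 29, 2], [56, 47, 22, 1], [33, 33, 3, 2], [46, 11, 17, 4], [16, 11, 29, 3], [60, 5, 22, 1], [10, 50, 20, 5], [40, 18, 27, 0]], [[0, 0, 0, 1], [5, 0, 0, 0], [9, 0, 0, 0], [12, 0, 0, 0], [16, 0, 0, 0], [19, 0, 0, 0], [22, 0, 0, 0], [26, 0, 0, 0], [10, 40, 7, 0], [23, 0, 36, 2], [33, 0, 0, 0], [27, 2, 32, 2], [38, 58, 29, 5], [11, 60, 8, 2], [41, 0, 0, 0], [39, 35, 10, 1], [46, 0, 0, 0], [48, 0, 0, 0], [49, 0, 0, 0], [1, 0, 0, 0], [37, 21, 3, 2], [50, 0, 0, 0], [24, 48, 11, 1], [2, 0, 38, 0], [6, 27, 20, 2], [54, 37, 1, 3], [44, 54, 19, 3], [13, 39, 20, 5], [57, 28, 28, 3], [35, 60, 31, 1], [43, 13, 37, 1], [17, 23, 26, 0], [28, 12, 9, 1], [8, 59, 32, 4],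 [18, 61, 16, 4], [52, 54, 4, 3], [53, 2, 8, 3], [40, 63, 2, 0], [3, 58, 30, 1], [59, 27, 32, 4], [20, 30, 7, 2], [61, 8, 25, 4], [36, 58, 13, 4], [62, 30, 38, 5], [7, 12, 19, 5], [47, 39, 11, 1], [4, 0, 0, 0], [58, 63, 1, 0], [31, 44, 32, 0], [34, 31, 35, 4], [51, 0, 39, 5], [21, 0, 37, 1], [29, 18, 14, 3], [42, 45, 2, 1], [55, 12, 4, 0], [25, 6, 30, 3], [56, 1, 26, 3], [32, 33, 11, 1], [45, 11, 5, 3], [15, 11, 30, 2], [60, 11, 27, 4], [14, 8, 12, 4], [30, 51, 9, 3]], [[0, 0, 0, 2], [1, 29, 22, 5], [2, 0, 16, 2], [12, 49, 38, 3], [17, 0, 0, 0], [19, 29, 22, 5], [6, 54, 4, 4], [21, 28, 16, 0], [18, 10, 11, 1], [23, 0, 38, 2], [34, 0, 0, 0], [37, 0, 0, 0], [3, 49, 38, 3], [40, 0, 0, 0], [41, 31, 7, 2], [39, 63, 22, 2], [31, 44, 32, 0], [4, 0, 0, 0], [8, 41, 10, 1], [5, 29, 22, 5], [27, 32, 33, 2], [7, 28, 18, 5], [24, 63, 5, 3], [9, 0, 36, 3], [22, 60, 38, 3], [55, 0, 0, 0], [51, 28,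 28, 3], [20, 38, 32, 5], [32, 44, 9, 4], [35, 1, 10, 1], [43, 29, 35, 0], [16, 23, 26, 0], [28, 36, 27, 5], [49, 61, 16, 4], [10, 0, 0, 0], [29, 16, 17, 2], [42, 0, 4, 1], [11, 0, 0, 0], [38, 49, 36, 2], [15, 60, 34, 4], [13, 0, 0, 0], [14, 31, 7, 2], [36, 0, 11, 3], [30, 29, 35, 0], [50, 53, 4, 1], [47, 0, 16, 3], [48, 0, 0, 0], [45, 0, 16, 3], [46, 0, 0, 0], [33, 31, 35, 4], [44, 53, 4, 1], [26, 28, 32, 2], [52, 48, 16, 2], [53, 21, 0, 0], [54, 6, 29, 2], [25, 0, 0, 0], [56, 5, 13, 1], [57, 0, 26, 0], [58, 58, 32, 1], [59, 33, 1, 5], [60, 15, 11, 3], [61, 31, 19, 1], [62, 4, 24, 1]]],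
  [[[1, 0, 0], [2, 0, 0], [0, 0, 0], [9, 0, 0], [12, 0, 0], [15, 0, 0], [18, 0, 0], [19, 0, 0], [21, 0, 0], [23, 0, 0], [26, 0, 0], [28, 0, 0], [29, 0, 0], [33, 0, 0], [36, 0, 0], [37, 0, 0], [14, 2, 3], [17, 17, 2], [40, 0, 0], [38, 5, 3], [32, 14, 0], [42, 0, 0], [43, 0, 0], [3, 0, 0], [47, 0, 0], [44, 39, 4], [31, 19, 4], [20, 10, 0], [48, 8, 0], [4, 0, 0], [52, 0, 0], [10, 19, 4], [27, 18, 4], [56, 0, 0], [34, 0, 1], [24, 39, 1], [16, 7, 4], [5, 0, 0], [7, 6, 0], [60, 0, 0], [6, 0, 0], [62, 0, 0], [8, 0, 0], [55, 1, 2], [58, 35, 1], [45, 25, 0], [39, 24, 4], [35, 39, 1], [11, 9, 5], [51, 32, 1], [54, 21, 3], [53, 1, 5], [63, 0, 0], [49, 27, 0], [61, 31, 3], [22, 3, 4], [13, 0, 0], [57, 31, 3], [25, 4, 4], [41, 17, 4], [46, 22, 2], [50, 39, 4], [59, 18, 5], [30, 0, 0]], [[0, 1, 0], [3, 0, 0], [6, 0, 0], [10, 0, 0], [13, 0, 0], [16, 0, 0], [4, 17, 2], [20, 0, 0], [22, 0, 0], [24,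 0, 0], [27, 0, 0], [7, 26, 5], [30, 0, 0], [34, 0, 0], [18, 30, 4], [38, 0, 0], [9, 30, 1], [11, 16, 2], [41, 0, 0], [5, 27, 2], [25, 10, 2], [14, 27, 2], [29, 12, 0], [44, 0, 0], [19, 10, 4], [17, 3, 5], [49, 0, 0], [50, 0, 0], [28, 3, 3], [51, 22, 0], [15, 6, 2], [23, 27, 3], [46, 15, 4], [37, 16, 4], [2, 26, 5], [21, 22, 1], [57, 0, 0], [58, 0, 0], [54, 0, 0], [43, 27, 5], [53, 39, 1], [35, 4, 5], [33, 25, 5], [61, 32, 5], [59, 19, 0], [52, 35, 3], [62, 20, 2], [45, 17, 1], [8, 32, 0], [47, 14, 4], [1, 0, 0], [48, 30, 4], [26, 37, 2], [32, 18, 1], [12, 6, 2], [42, 8, 1], [31, 32, 1], [39, 33, 2], [55, 5, 0], [56, 15, 0], [60, 3, 3], [36, 29, 5], [40, 32, 1], [63, 7, 5]], [[0, 0, 1], [4, 0, 0], [7, 0, 0], [11, 0, 0], [14, 0, 0], [17, 0, 0], [3, 5, 1], [8, 5, 4], [2, 5, 4], [25, 0, 0], [5, 0, 5], [6, 13, 0], [31, 0, 0], [35, 0, 0], [1, 0, 0], [39, 0, 0], [9, 9, 1], [10, 0, 5], [29,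 3, 4], [27, 2, 1], [24, 2, 1], [13, 15, 1], [41, 23, 0], [45, 0, 0], [48, 0, 0], [16, 11, 0], [15, 38, 2], [51, 0, 0], [28, 18, 2], [50, 14, 0], [49, 14, 0], [53, 0, 0], [55, 0, 0], [37, 1, 4], [22, 26, 0], [21, 15, 1], [33, 8, 2], [36, 27, 3], [42, 9, 2], [26, 36, 3], [23, 20, 4], [34, 1, 0], [57, 37, 1], [62, 30, 4], [59, 8, 0], [40, 20, 4], [61, 20, 4], [44, 5, 2], [20, 15, 4], [56, 8, 0], [18, 29, 0], [19, 15, 4], [43, 3, 3], [12, 0, 0], [32, 0, 0], [54, 0, 0], [30, 28, 5], [38, 23, 2], [46, 9, 5], [47, 4, 1], [60, 12, 1], [58, 24, 0], [52, 38, 2], [63, 27, 1]], [[0, 0, 2], [5, 0, 0], [8, 0, 0], [11, 0, 5], [10, 0, 5], [1, 0, 0], [6, 17, 3], [7, 5, 4], [2, 0, 0], [21, 3, 3], [4, 0, 5], [3, 0, 5], [32, 0, 0], [16, 16, 3], [17, 0, 0], [39, 6, 2], [13, 16, 3], [14, 0, 0], [27, 37, 2], [29, 36, 3], [22, 16, 3], [9, 4, 2], [20, 16, 3], [46, 0, 0], [34, 11, 0], [35, 3, 5], [26, 15,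 1], [18, 29, 5], [28, 15, 1], [19, 38, 2], [42, 9, 2], [54, 0, 0], [12, 0, 0], [47, 2, 3], [24, 9, 1], [25, 8, 2], [44, 15, 5], [59, 0, 0], [49, 14, 0], [15, 6, 2], [61, 0, 0], [48, 13, 5], [30, 3, 0], [43, 34, 4], [36, 13, 1], [58, 8, 0], [23, 0, 0], [33, 7, 4], [41, 13, 5], [38, 23, 3], [51, 0, 5], [50, 0, 5], [62, 8, 4], [55, 0, 0], [31, 0, 0], [53, 0, 0], [57, 8, 5], [56, 8, 5], [45, 9, 5], [37, 0, 0], [60, 29, 2], [40, 0, 0], [52, 1, 5], [63, 15, 1]]],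
  [[[1, 0], [2, 0], [5, 0], [7, 5], [10, 0], [9, 4], [12, 0], [14, 0], [16, 0], [0, 4], [17, 0], [19, 5], [20, 0], [11, 5], [23, 0], [18, 3], [4, 2], [8, 2], [25, 5], [22, 5], [28, 0], [31, 0], [33, 0], [26, 0], [30, 0], [34, 0], [3, 5], [6, 1], [27, 3], [36, 0], [38, 0], [29, 1], [15, 0], [13, 5], [32, 4], [24, 5], [39, 2], [35, 0], [37, 5], [21, 4]], [[0, 1], [3, 0], [6, 0], [8, 0], [11, 0], [7, 4], [13, 0], [15, 0], [1, 0], [4, 0], [18, 0], [9, 0], [21, 0], [2, 0], [24, 0], [5, 4], [16, 1], [19, 2], [26, 0], [27, 0], [29, 0], [23, 5], [31, 5], [12, 5], [28, 4], [35, 0], [10, 0], [17, 2], [14, 4], [37, 0], [39, 0], [32, 5], [22, 0], [25, 5], [30, 4], [33, 5], [36, 3], [20, 0], [38, 1], [34, 4]], [[0, 2], [4, 0], [7, 0], [9, 0], [1, 0], [6, 4], [5, 4], [2, 0], [11, 0], [3, 0], [19, 0], [8, 0], [22, 0], [15, 0], [25, 0], [13, 0], [16, 5], [18, 2], [17, 2], [10, 0], [30, 0], [32,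 0], [12, 0], [31, 0], [33, 5], [14, 0], [27, 0], [26, 0], [35, 4], [34, 4], [20, 0], [23, 0], [21, 0], [24, 5], [29, 4], [28, 4], [36, 4], [39, 0], [38, 4], [37, 0]]],
  [[[1], [3], [5], [0], [2], [4]], [[2], [4], [0], [5], [1], [3]]]]

/-- The cover. -/
def subG : Sub where
  g0 := t0
  g0i := t2
  g1 := t1
  g1i := t3
  E := subGE
  steps := [(1, 0), (0, 1), (4, 1), (6, 5), (7, 4), (1, 8), (8, 9), (7, 1), (1, 11), (12, 10), (10, 13), (5, 8), (9, 15), (7, 12), (1, 17), (18, 16), (19, 14), (11, 4), (21, 1), (22, 18), (23, 20), (1, 1), (2, 25), (26, 10), (4, 4), (28, 6), (29, 4), (18, 4), (31, 19), (15, 32), (1, 33), (34, 30), (35, 27), (36, 24), (37, 14), (13, 22), (39, 38), (1, 22), (35, 41), (14, 30), (13, 43), (35, 32), (45, 44), (46, 42), (0, 30), (19, 48), (31, 49), (27, 50), (35, 51), (52, 22), (53, 47), (25, 45), (55, 39), (24, 55), (38, 57), (22, 58), (59, 44), (20, 24),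 (61, 13), (1, 4), (63, 21), (64, 22), (65, 2), (66, 29), (67, 30), (68, 12), (69, 8), (70, 17), (71, 25), (72, 15), (73, 9), (74, 26), (75, 48), (76, 10), (77, 18), (78, 27), (79, 16), (80, 31), (81, 13), (82, 14), (83, 19), (84, 49), (85, 23), (86, 50), (87, 32), (88, 33), (89, 20), (90, 24), (91, 51), (92, 34), (93, 61), (94, 35), (95, 36), (96, 52), (97, 45), (98, 37), (99, 55), (100, 62), (101, 53), (102, 43), (103, 38), (104, 44), (105, 41), (106, 46), (107, 42), (108, 47), (109, 57), (110, 58), (111, 59), (112, 60), (113, 39), (114, 56), (115, 54), (116, 40), (2, 3), (3, 118), (119, 3), (120, 2), (121, 2), (122, 117), (0, 6), (0, 124), (118, 3), (3, 2), (127, 119), (3, 128), (118, 129), (130, 126), (3, 130), (132, 131), (0, 133), (118, 118), (119, 135), (136, 134), (118, 136), (138, 137), (129, 3), (140, 139), (118, 128), (142, 141), (140, 128), (144, 143), (3, 3), (146, 145),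 (142, 127), (148, 147), (142, 3), (150, 149), (146, 0), (152, 151), (138, 2), (154, 153), (150, 142), (156, 155), (144, 3), (158, 157), (156, 152), (160, 159), (148, 150), (162, 161), (118, 158), (164, 163), (156, 140), (166, 165), (166, 156), (168, 167), (162, 158), (170, 169), (154, 170), (172, 171), (158, 132), (174, 173), (172, 164), (176, 175), (170, 164), (178, 177), (178, 148), (180, 179), (168, 170), (182, 181), (182, 174), (184, 183), (176, 160), (186, 185), (180, 3), (188, 187), (184, 182), (190, 189), (138, 188), (192, 191), (160, 192), (194, 193), (186, 192), (196, 195), (178, 192), (198, 197), (184, 194), (200, 199), (198, 146), (202, 201), (166, 190), (204, 203), (132, 196), (206, 205), (138, 168), (208, 207), (168, 200), (210, 209), (208, 166), (212, 211), (132, 3), (214, 213), (212, 198), (216, 215), (214, 192), (218, 217), (218, 216), (220, 219), (202, 184), (222,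 221), (222, 210), (224, 223), (224, 132), (226, 225), (212, 226), (228, 227), (132, 166), (230, 229), (230, 202), (232, 231), (220, 206), (234, 233), (235, 125), (236, 236), (237, 236), (238, 123), (119, 2), (240, 2), (241, 116), (242, 242), (242, 243), (1, 6), (0, 245), (0, 246), (210, 230), (248, 235), (249, 247), (250, 244), (0, 5), (226, 204), (253, 249), (254, 252), (255, 244), (251, 256), (257, 251), (258, 256), (259, 251), (62, 59), (117, 261), (127, 2), (263, 262), (238, 264), (265, 239), (265, 266), (265, 267), (265, 268), (265, 269), (270, 260), (261, 37), (62, 41), (262, 273), (274, 272), (263, 275), (2, 251), (277, 236), (278, 236), (279, 276), (256, 280)]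
  sgI := [0, 1, 239, 271, 281]
  base := [0, 63, 287, 3]
  lev := subGLev
  sg := [[t0, t1, t236, t268, t278], [t0, t236, t268, t278], [t236, t268, t278], [t268, t278]]
  par := [[(0, 0), (1, 0), (0, 1), (1, 1), (2, 1), (3, 1), (0, 2), (1, 2), (2, 2), (3, 2), (1, 3), (2, 3), (3, 3), (0, 4), (1, 4), (2, 4), (3, 4), (4, 4), (1, 5), (3, 5), (1, 6), (2, 6), (3, 6), (0, 7), (1, 7), (2, 7), (3, 7), (0, 8), (1, 8), (0, 9), (1, 9), (0, 10), (2, 10), (3, 10), (4, 10), (0, 11), (2, 11), (4, 11), (2, 12), (0, 13), (4, 13), (3, 14), (0, 15), (1, 15), (0, 16), (2, 16), (3, 16), (2, 17), (3, 17), (3, 18), (3, 21), (0, 24), (1, 24), (1, 25), (2, 25), (4, 25), (1, 28), (2, 28), (0, 38), (2, 39), (1, 41), (2, 41), (2, 43)], [(0, 0), (0, 0), (0, 1), (1, 1), (2, 1), (3, 1), (1, 2), (2, 2), (3, 2), (0, 3), (1, 3), (2, 3), (0, 4), (1, 4), (2, 4), (0, 5), (1, 5), (2, 5), (0, 6), (0, 7), (1, 7), (0, 8),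 (1, 8), (0, 9), (1, 9), (2, 9), (0, 10), (1, 10), (0, 11), (0, 12), (1, 12), (2, 12), (3, 12), (0, 13), (1, 13), (2, 13), (0, 14), (0, 15), (1, 15), (2, 15), (0, 18), (1, 18), (0, 21), (0, 22), (1, 23), (2, 23), (3, 23), (0, 24), (2, 24), (1, 26), (1, 27), (2, 27), (0, 30), (2, 31), (3, 31), (2, 32), (0, 33), (1, 36), (1, 37), (3, 37), (0, 39), (3, 40), (0, 41), (0, 52)], [(0, 0), (0, 0), (0, 1), (1, 1), (2, 1), (0, 2), (1, 2), (2, 2), (1, 3), (2, 3), (0, 4), (1, 4), (0, 6), (1, 6), (0, 7), (1, 7), (0, 8), (0, 10), (1, 10), (2, 10), (0, 12), (1, 12), (2, 12), (0, 14), (1, 14), (2, 14), (1, 18), (1, 19), (0, 20), (1, 20), (2, 20), (0, 21), (2, 21), (0, 22), (0, 25), (1, 25), (0, 29), (1, 29), (0, 30), (1, 30)], [(0, 0), (0, 0), (1, 0), (0, 1), (1, 1), (0, 2)]]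
  close := subGClose

/-- The lift of an alternating group of degree six: tables. -/
def subAE : List ℕ := [t434, t435, t436, t437, t438, t439, t440, t441, t442, t443, t444, t445, t446, t447, t448, t449, t450, t451, t452, t453, t454, t455, t456, t457, t458, t459, t460, t461, t462, t463, t464, t465, t466, t467, t468, t469, t470, t471, t472, t473, t474, t475, t476, t477, t478, t479, t480, t481, t482, t483, t484, t485, t486, t487, t488, t489, t490, t491, t492, t493, t494, t495, t496, t497, t498, t499, t500, t501, t502, t503, t504, t505, t506, t507, t508, t509, t510, t511, t512, t513, t514, t515, t516, t517, t518, t519, t520, t521, t522, t523, t524, t525, t526, t527, t528, t529, t530, t531, t532, t533, t534, t535, t536, t537, t483, t538, t539, t540, t541, t542, t543, t482, t544, t545, t546, t547, t548, t549, t470, t550, t420, t551, t552, t553, t554, t555, t556, t557, t558, t559, t560,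 t561, t562, t563, t564, t565, t253, t566, t407, t428, t394, t268]

/-- The lift of an alternating group of degree six: levels. -/
def subALev : List (List ℕ) := [[t279, t434, t469, t438, t567, t536, t568, t569, t570, t571, t572, t436, t573, t574, t575, t576, t463, t563], [t279], [t279, t435, t468, t577, t537, t578, t579, t580, t437, t581, t256, t582, t420, t397, t583, t584, t426, t585, t586, t412, t587, t588, t589, t264, t590, t591, t592, t267, t593, t266, t594, t416, t595, t596, t404, t597, t598, t236, t599, t427], [t279, t268, t431]]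

/-- The lift of an alternating group of degree six: products. -/
def subAClose : List (List (List (List ℕ))) := [
  [[[1, 0, 0, 0], [2, 0, 0, 0], [5, 0, 0, 0], [8, 0, 0, 0], [9, 0, 0, 0], [11, 0, 0, 0], [6, 0, 9, 2], [14, 0, 0, 0], [15, 0, 0, 0], [16, 0, 13, 2], [12, 0, 34, 0], [0, 0, 0, 0], [4, 0, 16, 1], [13, 0, 26, 1], [3, 0, 36, 2], [7, 0, 33, 1], [10, 0, 38, 1], [17, 0, 5, 2]], [[0, 0, 1, 0], [3, 0, 0, 0], [6, 0, 0, 0], [2, 0, 22, 2], [1, 0, 39, 1], [10, 0, 36, 0], [4, 0, 7, 2], [12, 0, 9, 1], [16, 0, 0, 0], [9, 0, 3, 2], [17, 0, 0, 0], [7, 0, 24, 2], [14, 0, 25, 0], [11, 0, 34, 1], [13, 0, 33, 2], [15, 0, 4, 1], [5, 0, 3, 0], [8, 0, 32, 2]], [[0, 0, 0, 1], [4, 0, 0, 0], [7, 0, 0, 0], [5, 0, 22, 1], [10, 0, 0, 0], [12, 0, 0, 0], [13, 0, 0, 0], [11, 0, 31, 1], [14, 0, 35, 0], [9, 0, 0, 1], [1, 0, 0, 0], [2, 0, 19, 2], [3, 0, 37, 1], [17, 0, 10, 2], [16, 0, 13, 0], [15, 0, 18,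 2], [8, 0, 31, 2], [6, 0, 7, 2]]],
  [[[0, 1, 0]], [[0, 0, 1]]],
  [[[1, 0], [2, 0], [4, 0], [6, 0], [8, 0], [10, 0], [12, 0], [13, 0], [0, 0], [14, 0], [15, 0], [16, 0], [17, 0], [18, 0], [19, 0], [20, 0], [22, 0], [21, 0], [23, 0], [26, 0], [27, 0], [3, 0], [25, 1], [24, 1], [7, 2], [29, 0], [28, 1], [5, 0], [9, 2], [11, 2], [34, 0], [35, 0], [37, 0], [31, 0], [32, 0], [36, 2], [38, 0], [39, 0], [33, 1], [30, 0]], [[0, 1], [3, 0], [5, 0], [7, 0], [9, 0], [11, 0], [6, 1], [1, 0], [10, 1], [13, 1], [12, 1], [2, 0], [8, 1], [4, 2], [17, 1], [21, 0], [23, 0], [24, 0], [25, 0], [27, 0], [28, 0], [29, 0], [30, 0], [31, 0], [14, 2], [32, 0], [33, 0], [34, 0], [35, 0], [15, 0], [36, 0], [16, 0], [18, 0], [37, 1], [19, 0], [20, 0], [22, 0], [26, 2], [38, 2], [39, 2]]],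
  [[[1], [2], [0]]]]

/-- The lift of an alternating group of degree six. -/
def subA : Sub where
  g0 := t434
  g0i := t436
  g1 := t435
  g1i := t437
  E := subAE
  steps := [(1, 0), (0, 1), (4, 1), (6, 5), (7, 1), (8, 4), (9, 1), (1, 10), (7, 4), (1, 12), (12, 13), (1, 8), (15, 14), (14, 16), (5, 12), (13, 18), (7, 15), (1, 20), (21, 19), (22, 17), (10, 21), (24, 23), (23, 25), (26, 16), (27, 11), (4, 4), (29, 6), (30, 4), (0, 31), (22, 32), (1, 1), (0, 0), (35, 34), (36, 14), (21, 4), (38, 22), (18, 39), (1, 40), (41, 31), (42, 37), (43, 25), (44, 17), (45, 33), (10, 46), (27, 47), (16, 10), (49, 45), (42, 11), (17, 31), (16, 52), (42, 39), (54, 53), (55, 51), (38, 33), (37, 57), (42, 58), (59, 10), (60, 56), (34, 54), (62, 49), (47, 53), (25, 47), (65, 64), (66, 49), (67, 63), (68, 61), (69, 50), (70, 48), (71, 28), (2, 3), (3, 73), (3, 2), (75, 74), (3, 76), (73, 77), (3, 78),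 (77, 3), (80, 76), (81, 3), (82, 79), (73, 76), (84, 3), (84, 75), (86, 85), (87, 82), (85, 84), (89, 80), (90, 89), (91, 88), (92, 83), (73, 82), (88, 94), (95, 86), (96, 3), (73, 73), (74, 98), (73, 99), (100, 97), (2, 2), (3, 3), (103, 102), (89, 104), (105, 101), (93, 106), (91, 107), (100, 2), (109, 88), (110, 108), (111, 79), (112, 93), (100, 91), (114, 90), (115, 112), (116, 113), (79, 90), (118, 117), (95, 101), (120, 103), (118, 121), (122, 119), (110, 94), (124, 105), (125, 101), (79, 126), (115, 120), (79, 3), (129, 101), (130, 128), (131, 127), (132, 123), (133, 2), (2, 134), (135, 72), (103, 134), (137, 3), (138, 134), (139, 3), (140, 136)]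
  sgI := [0, 1, 141]
  base := [0, 63, 287, 3]
  lev := subALev
  sg := [[t434, t435, t268], [t435, t268], [t435, t268], [t268]]
  par := [[(0, 0), (0, 0), (0, 1), (1, 1), (2, 1), (0, 2), (1, 2), (2, 2), (0, 3), (0, 4), (2, 4), (0, 5), (2, 5), (2, 6), (0, 7), (0, 8), (1, 8), (1, 10)], [(0, 0)], [(0, 0), (0, 0), (0, 1), (1, 1), (0, 2), (1, 2), (0, 3), (1, 3), (0, 4), (1, 4), (0, 5), (1, 5), (0, 6), (0, 7), (0, 9), (0, 10), (0, 11), (0, 12), (0, 13), (0, 14), (0, 15), (1, 15), (0, 16), (1, 16), (1, 17), (1, 18), (0, 19), (1, 19), (1, 20), (1, 21), (1, 22), (1, 23), (1, 25), (1, 26), (1, 27), (1, 28), (1, 30), (0, 32), (0, 36), (0, 37)], [(0, 0), (0, 0), (0, 1)]]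
  close := subAClose

/-- A subgroup of odd order: tables. -/
def subTE : List ℕ := [t600, t601, t602, t603, t604, t605, t606, t607]

/-- A subgroup of odd order: levels. -/
def subTLev : List (List ℕ) := [[t279, t600, t601, t602, t605, t608, t603, t609, t610], [t279], [t279, t607, t588]]

/-- A subgroup of odd order: products. -/
def subTClose : List (List (List (List ℕ))) := [
  [[[1, 0, 0], [3, 0, 0], [5, 0, 0], [0, 0, 0], [2, 0, 2], [4, 0, 1], [6, 0, 1], [7, 0, 1], [8, 0, 1]], [[2, 0, 0], [4, 0, 0], [6, 0, 0], [5, 0, 1], [7, 0, 0], [8, 0, 0], [0, 0, 0], [1, 0, 0], [3, 0, 2]], [[0, 0, 1], [1, 0, 1], [4, 0, 0], [3, 0, 1], [5, 0, 1], [2, 0, 2], [8, 0, 0], [6, 0, 2], [7, 0, 1]]],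
  [[[0, 1]]],
  [[[1], [2], [0]]]]

/-- A subgroup of odd order. -/
def subT : Sub where
  g0 := t600
  g0i := t602
  g1 := t601
  g1i := t603
  E := subTE
  steps := [(2, 1), (1, 0), (5, 5), (6, 4)]
  sgI := [0, 1, 7]
  base := [0, 63, 287]
  lev := subTLev
  sg := [[t600, t601, t607], [t607], [t607]]
  par := [[(0, 0), (0, 0), (1, 0), (0, 1), (1, 1), (0, 2), (1, 2), (1, 4), (1, 5)], [(0, 0)], [(0, 0), (0, 0), (0, 1)]]
  close := subTClose

/-- A subgroup of index prime to three: tables. -/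
def subHE : List ℕ := [t611, t612, t613, t614, t615, t616, t617, t618, t619, t620, t621, t622, t623, t624, t625, t626, t627, t628, t566, t629, t630, t631, t632, t633, t577, t634, t635, t636, t637, t638, t639, t640, t641, t459, t642, t643, t644, t645, t646, t647, t648, t649, t650, t651]

/-- A subgroup of index prime to three: levels. -/
def subHLev : List (List ℕ) := [[t279, t611, t612, t613, t615, t652, t631, t617, t653, t654, t616, t619, t655, t656, t657, t632, t658, t659], [t279, t651, t660], [t279, t566, t661, t577]]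

/-- A subgroup of index prime to three: products. -/
def subHClose : List (List (List (List ℕ))) := [
  [[[1, 0, 0], [3, 0, 0], [7, 0, 0], [0, 0, 0], [10, 0, 0], [13, 0, 0], [14, 0, 3], [12, 2, 3], [8, 1, 0], [9, 1, 0], [15, 1, 0], [11, 2, 3], [2, 1, 0], [16, 1, 1], [17, 0, 0], [4, 2, 3], [5, 1, 3], [6, 0, 1]], [[2, 0, 0], [4, 0, 0], [1, 2, 0], [9, 0, 0], [0, 2, 0], [8, 0, 1], [15, 0, 0], [6, 0, 1], [5, 1, 0], [3, 2, 0], [13, 2, 3], [14, 0, 1], [16, 0, 1], [12, 0, 1], [11, 0, 0], [17, 0, 0], [10, 1, 0], [7, 0, 1]], [[0, 0, 1], [5, 0, 0], [2, 1, 1], [6, 2, 0], [11, 0, 0], [1, 0, 2], [3, 2, 0], [7, 2, 0], [15, 0, 1], [10, 0, 1], [9, 0, 1], [4, 0, 2], [12, 1, 1], [13, 0, 1], [16, 0, 2], [8, 0, 1], [14, 0, 0], [17, 2, 0]], [[0, 1, 0], [6, 0, 0], [8, 0, 0], [5, 2, 2], [12, 0, 0], [14, 0, 0], [16, 0, 0], [9, 1, 0], [15, 2, 3], [10, 2, 3], [7, 0, 0], [4, 1, 1], [11, 1, 3], [13, 2, 3],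 [3, 2, 0], [2, 1, 0], [1, 0, 0], [17, 2, 3]]],
  [[[0, 1], [2, 0], [1, 2]], [[1, 0], [2, 3], [0, 1]]],
  [[[1], [2], [3], [0]]]]

/-- A subgroup of index prime to three. -/
def subH : Sub where
  g0 := t611
  g0i := t613
  g1 := t612
  g1i := t614
  E := subHE
  steps := [(1, 0), (0, 4), (0, 1), (4, 1), (7, 6), (8, 5), (8, 1), (4, 4), (11, 7), (12, 6), (13, 6), (14, 8), (15, 10), (16, 4), (17, 9), (7, 2), (1, 10), (8, 20), (1, 21), (10, 4), (23, 1), (24, 22), (8, 4), (1, 26), (6, 26), (1, 1), (12, 4), (17, 23), (31, 24), (32, 2), (33, 12), (34, 30), (35, 20), (36, 26), (37, 21), (38, 29), (39, 28), (40, 27), (41, 25), (42, 19)]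
  sgI := [0, 1, 18, 43]
  base := [0, 63, 287]
  lev := subHLev
  sg := [[t611, t612, t566, t651], [t566, t651], [t566]]
  par := [[(0, 0), (0, 0), (1, 0), (0, 1), (1, 1), (2, 1), (3, 1), (0, 2), (3, 2), (1, 3), (0, 4), (2, 4), (3, 4), (0, 5), (3, 5), (1, 6), (3, 6), (0, 14)], [(0, 0), (1, 0), (0, 1)], [(0, 0), (0, 0), (0, 1), (0, 2)]]
  close := subHClose

/-- A subgroup of order prime to three: tables. -/
def subCE : List ℕ := [t612, t612, t614, t614, t638, t661]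

/-- A subgroup of order prime to three: levels. -/
def subCLev : List (List ℕ) := [[t279, t612, t638, t662], [t279], [t279, t661]]

/-- A subgroup of order prime to three: products. -/
def subCClose : List (List (List (List ℕ))) := [
  [[[1, 0, 0], [2, 0, 0], [3, 0, 0], [0, 0, 1]], [[1, 0, 0], [2, 0, 0], [3, 0, 0], [0, 0, 1]], [[0, 0, 1], [1, 0, 1], [2, 0, 1], [3, 0, 1]]],
  [[[0, 1]]],
  [[[1], [0]]]]

/-- A subgroup of order prime to three. -/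
def subC : Sub where
  g0 := t612
  g0i := t614
  g1 := t612
  g1i := t614
  E := subCE
  steps := [(0, 0), (4, 4)]
  sgI := [0, 0, 5]
  base := [0, 63, 287]
  lev := subCLev
  sg := [[t612, t612, t661], [t661], [t661]]
  par := [[(0, 0), (0, 0), (0, 1), (0, 2)], [(0, 0)], [(0, 0), (0, 0)]]
  close := subCClose

/-- Alternating lift over the odd subgroup: the cosets. -/
def cosA : Cos where
  reps := [t279, t434, t435, t469, t438, t439, t468, t536, t568, t570, t663, t664, t440, t665, t537, t436, t666, t667, t668, t576, t463, t669, t670, t671, t672, t673, t499, t470, t674, t437, t675, t676, t677, t678, t679, t680, t681, t682, t683, t684, t685, t455, t686, t687, t688, t689, t690, t691, t692, t693, t694, t695, t696, t483, t697, t698, t699, t700, t701, t702, t703, t704, t705, t706, t707, t708, t709, t710, t711, t712, t713, t714, t715, t716, t717, t718, t719, t720, t721, t722]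
  wit0 := [[0, 0, 0], [0, 0, 0], [0, 0, 0], [0, 0, 0], [0, 0, 0], [0, 0, 0], [0, 0, 0], [0, 0, 0], [0, 0, 0], [0, 0, 0], [0, 0, 0], [0, 0, 0], [0, 0, 0], [0, 0, 0], [8, 0, 0], [0, 0, 0], [0, 0, 0], [0, 0, 0], [0, 0, 0], [0, 0, 0], [0, 0, 0], [0, 0, 0], [0, 0, 0], [1, 0, 1], [0, 0, 0], [4, 0, 2], [4, 0, 2], [0, 0, 0], [8, 0, 1], [0, 0, 0], [6, 0, 0], [0, 0, 0], [0, 0, 0], [0, 0, 0], [3, 0, 2], [0, 0, 0], [4, 0, 0], [0, 0, 0], [2, 0, 2], [4, 0, 1], [4, 0, 0], [8, 0, 2], [8, 0, 0], [0, 0, 0], [1, 0, 1], [4, 0, 1], [0, 0, 0], [7, 0, 2], [0, 0, 0], [0, 0, 0], [7, 0, 0], [6, 0, 2], [2, 0, 0], [0, 0, 0], [2, 0, 2], [5, 0, 0], [5, 0, 2], [0, 0, 0], [0, 0, 0], [0, 0, 0], [3, 0, 0], [0, 0, 0], [0, 0, 0], [1, 0, 1], [8, 0, 0], [0, 0, 0], [1, 0, 1], [5, 0, 1], [3, 0, 1], [4, 0, 0], [3, 0, 1], [6, 0, 2], [0, 0, 0], [0, 0, 1], [5, 0, 2], [0, 0, 1], [3, 0, 2], [7, 0, 2], [8, 0, 0], [4, 0, 2]]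
  wit1 := [[0, 0, 0], [0, 0, 0], [0, 0, 0], [0, 0, 0], [0, 0, 0], [0, 0, 0], [0, 0, 0], [0, 0, 0], [0, 0, 0], [0, 0, 0], [0, 0, 0], [0, 0, 0], [0, 0, 0], [0, 0, 0], [0, 0, 0], [0, 0, 0], [0, 0, 0], [0, 0, 0], [0, 0, 0], [0, 0, 0], [0, 0, 2], [2, 0, 0], [0, 0, 0], [0, 0, 0], [3, 0, 0], [1, 0, 0], [0, 0, 0], [0, 0, 0], [0, 0, 0], [0, 0, 0], [0, 0, 0], [6, 0, 1], [0, 0, 0], [0, 0, 0], [4, 0, 0], [2, 0, 0], [0, 0, 0], [0, 0, 0], [8, 0, 0], [0, 0, 0], [0, 0, 0], [7, 0, 1], [0, 0, 0], [0, 0, 0], [0, 0, 0], [0, 0, 0], [5, 0, 2], [0, 0, 1], [2, 0, 2], [0, 0, 0], [1, 0, 0], [0, 0, 0], [1, 0, 1], [0, 0, 2], [0, 0, 0], [7, 0, 2], [0, 0, 1], [0, 0, 0], [1, 0, 1], [1, 0, 2], [8, 0, 0], [0, 0, 1], [0, 0, 1], [0, 0, 0], [0, 0, 0], [0, 0, 0], [0, 0, 0], [7, 0, 1], [1, 0, 1], [0, 0, 0], [4, 0, 2], [6, 0, 1], [8, 0, 0], [1, 0, 1], [0, 0, 1], [5, 0, 0], [4, 0, 1], [5, 0, 0], [0, 0, 2], [6, 0, 0]]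
  path0 := [15, 0, 8, 1]
  path1 := [1, 0, 38, 2]

/-- Alternating lift over the odd subgroup: the certificate. -/
def cosACert : StemCert where
  N := 80
  m := 18
  w := 7
  tab0 := 0x2c60ecd353a24f96516b799003204d2a4af8e12445643a3307ef61c2150493e76d5cbc5441d1c7009b34669188c5cacf2c44a54274a8d09f0020d992e549911e345890e14181
  tab1 := 0x926dd4a9f216348cba7272b366059624fa38684187851dc418a2e21366a603f7c05b3d7835db962a1bb522c80305eb528f56a8c974c911203c74e1a3058a12203860a1018202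
  parI := 0x78b1faa5ac5575555554
  parX := 0x91161417ef9eb96cd59b162c172d58ad4274a9522342850203e78e9c366cd182e58b15284c9922444890203c70d1a3060b162850912204070e183050a1020306081010200000
  spec := (14, 23)
  rels := [
    [0, 0, 0, 0, 0],
    [1, 1, 1, 1, 1],
    [1, 1, 1, 1, 1, 0, 0, 0, 0, 0],
    [1, 1, 0, 1, 0, 1, 0, 0, 0, 0, 0, 0, 0, 0, 0, 0, 0, 1, 1, 1, 1, 1, 1, 1, 1, 1, 1, 1, 1, 0, 0, 0, 0, 1, 1, 1, 1, 0, 0, 0, 0],
    [1, 1, 1, 1, 1, 0, 0, 0, 1, 0, 0, 0, 0, 0, 0, 0, 0, 0, 0, 0, 0, 0, 0, 0, 0, 0, 0, 0, 0, 1, 1, 1, 1, 0, 0, 0, 0, 0, 0, 0, 0, 0, 0, 0, 0],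
    [1, 0, 1, 1, 1, 1, 0, 0, 0, 1, 1, 1, 0, 0, 0, 0, 1, 1, 1, 1, 0, 0, 0, 0, 1, 1, 1, 1, 0, 0, 0, 0, 1, 1, 1, 1, 0, 0, 0, 0, 0, 0, 0, 0],
    [0, 1, 0, 0, 0, 1, 1, 1, 0, 0, 1, 1, 0, 0, 0, 0, 0, 0, 0, 0, 1, 1, 1, 1, 1, 1, 1, 1, 1, 1, 1, 1, 0, 0, 0, 0, 0, 0, 0, 0, 0, 0, 0, 0, 1, 1, 1, 1, 1, 1, 1, 1, 1, 1, 1, 1]]
  vw := 18
  vals := 0x955a41000800039ec8bef85fd4a9468b628269828410200003cd6a9008400000000000020000001001b0230d0a3032b608800008040058228000001008800b00000008000000080204009e702000000000000000002abba00000000000800000000000301894c880000000004820800000000800000000000005a20c0082000000000a01240102000000000000000000000000000000000000000000000000000000000000000000000000000000000000000000008027f635942801024760d6b436310c000019e01422a8c7ad20435902461cb000050000331080000000025101444a0000100002b5a05e08c00010000161ca4852e5dea000000000304040000902ab1421803a905210080748a89d20ded0800000400000000000100000000000000800000000210a0000020003842c0000000000000000000000000000000000000000000040000000000000000000000000000000000000000000000000000000000000000000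
  seeds := [(130, 7), (142, 8), (79, 9), (136, 10), (118, 11), (158, 12), (26, 13), (36, 14), (30, 15), (64, 16), (157, 17)]
  steps := [(15, 0, 0), (34, 0, 2), (58, 0, 4), (65, 0, 6), (54, 0, 8), (109, 1, 0), (122, 1, 1), (137, 1, 3), (144, 1, 5), (104, 1, 11), (100, 1, 9), (41, 0, 22), (133, 1, 7), (128, 1, 13), (127, 1, 27), (28, 3, 9), (66, 6, 13), (25, 0, 12), (139, 6, 43), (132, 3, 36), (52, 0, 32), (135, 6, 9), (77, 6, 29), (68, 3, 12), (111, 3, 66), (138, 1, 33), (101, 3, 11), (76, 6, 77), (147, 5, 4), (67, 0, 29), (105, 3, 37), (126, 6, 57), (115, 3, 25), (45, 3, 58), (43, 6, 66), (38, 3, 29), (152, 6, 21), (56, 3, 32), (69, 6, 67), (141, 6, 1), (78, 6, 24), (140, 6, 39), (63, 3, 28), (47, 6, 5), (44, 6, 45), (114, 1, 17), (50, 3, 5), (148, 1, 35), (40, 6, 59), (51, 0, 16), (74, 0, 24), (156, 5, 58), (153, 3, 13), (73, 6, 64), (154, 3, 78), (59, 5, 71), (55, 6, 58), (60,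 3, 56), (150, 3, 33), (39, 5, 38), (155, 6, 7), (121, 3, 0), (75, 3, 19), (70, 5, 1), (159, 6, 33), (42, 5, 56), (71, 5, 75), (151, 3, 14)]
  cons := [(0, 10), (0, 18), (0, 20), (0, 26), (0, 50), (1, 21), (1, 41), (1, 44), (1, 52), (2, 0), (3, 1), (3, 2), (3, 3), (3, 4), (3, 6), (3, 8), (3, 15), (4, 0)]
  combs := [[2, 4, 6, 7, 11, 12, 15], [0, 1, 3, 6, 7, 11, 13, 16], [0, 1, 2, 3, 4, 9, 12, 13, 15, 16], [3, 4, 7, 8, 10, 11, 13, 15], [2, 4, 6, 7, 11, 12, 15, 17], [0, 1, 5, 6, 7, 11, 15], [0, 1, 2, 3, 7, 10, 15], [1, 2, 4, 7, 8], [0, 1, 4, 5, 7, 12, 13, 14, 15], [2, 4, 5, 8, 10, 11, 12, 15, 16], [1, 2, 3, 10, 13, 16], [0, 2, 4, 5, 13, 15], [0, 3, 4, 5, 7, 10, 11, 13, 16], [3, 8, 11, 14, 15], [0, 1, 3, 6, 10, 12, 13, 14, 15, 16], [0, 2, 4, 6, 8, 13, 14], [1, 3, 5, 7, 8, 10, 13, 15], [3, 5, 6, 7, 10, 11, 12, 13, 15]]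

/-- The three-local subgroup over a two-subgroup: the cosets. -/
def cosH : Cos where
  reps := [t279, t611, t613, t615, t654, t616, t723, t724, t622, t725, t629, t726, t727, t728, t648, t729, t643, t730, t566, t731, t732, t733, t734, t735, t736, t737, t640]
  wit0 := [[0, 0, 0], [0, 0, 0], [0, 0, 0], [0, 0, 0], [0, 0, 0], [0, 0, 0], [0, 0, 0], [0, 0, 0], [0, 0, 0], [0, 0, 0], [0, 0, 0], [0, 0, 0], [0, 0, 0], [0, 0, 0], [0, 0, 0], [0, 0, 0], [0, 0, 0], [0, 0, 0], [2, 0, 1], [0, 0, 0], [0, 0, 0], [0, 0, 0], [0, 0, 0], [2, 0, 0], [0, 0, 0], [0, 0, 0], [0, 0, 0]]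
  wit1 := [[1, 0, 0], [0, 0, 0], [0, 0, 0], [2, 0, 0], [2, 0, 0], [0, 0, 0], [0, 0, 0], [0, 0, 0], [2, 0, 0], [0, 0, 0], [2, 0, 0], [2, 0, 0], [0, 0, 0], [2, 0, 0], [1, 0, 0], [0, 0, 0], [1, 0, 0], [0, 0, 0], [1, 0, 0], [0, 0, 0], [1, 0, 0], [2, 0, 0], [1, 0, 0], [2, 0, 0], [2, 0, 0], [2, 0, 0], [1, 0, 0]]
  path0 := [2, 0, 0]
  path1 := [2, 0, 0]

/-- The three-local subgroup over a two-subgroup: the certificate. -/
def cosHCert : StemCert where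
  N := 27
  m := 7
  w := 5
  tab0 := 0x563a6e70b55ec8a4e507b88c1a4e628041
  tab1 := 0x698fcda70c52eeac8b131da95a90111060
  parI := 0x1a22d18
  parX := 0x62d38c5ef7358c5a928398c52906208400
  spec := (18, 30)
  rels := [
    [0, 0, 0],
    [1, 1, 1, 1, 1, 1, 1, 1],
    [0, 0, 0, 1, 1, 1, 1, 1, 1, 1, 1],
    [1, 1, 1, 1, 1, 1, 0, 1, 1, 1, 0, 0, 0, 1, 1, 1, 1, 1, 1, 1, 0, 0, 0, 0],
    [0, 0, 0, 1, 0, 0, 1, 0, 0, 0, 1, 1, 1, 1, 1, 1, 1, 0, 0, 0, 0, 1, 1, 1, 1, 1, 1, 1],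
    [0, 0, 1, 1, 1, 1, 1, 1, 1, 1, 1, 1, 0, 0, 1, 1, 1, 1, 1, 1, 1, 1, 1, 1, 1, 1, 1, 1],
    [0, 1, 0, 1, 0, 1, 0, 1, 0, 0, 0, 0, 0, 1, 1, 1, 1, 1, 1, 1, 0, 0, 1, 1, 1, 1, 1, 1, 1, 0, 0, 1, 1, 1, 1, 1, 1, 1, 0, 0, 1, 1, 1, 1, 1, 1, 1]]
  vw := 12
  vals := 0x61eb0060370060002fa0006dd0005ef0004090390000f51ed0001e70000000000060000000000062e1001000001000039001001000000001000000000000000000001000001000000000000001000000
  seeds := []
  steps := [(2, 0, 0), (7, 0, 3), (9, 0, 4), (16, 0, 8), (19, 0, 10), (20, 0, 11), (23, 0, 13), (25, 0, 17), (27, 1, 0), (31, 1, 1), (49, 1, 22), (53, 1, 26), (35, 5, 3), (38, 5, 7), (50, 3, 25), (40, 3, 3), (37, 5, 4), (52, 5, 22), (48, 5, 11), (51, 5, 19), (45, 6, 11), (41, 6, 17), (26, 6, 3), (21, 3, 24), (47, 3, 12), (43, 3, 13)]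
  cons := [(0, 21), (1, 5), (1, 12), (1, 14), (2, 0), (3, 0), (4, 0)]
  combs := [[1, 1, 2], [1, 3, 3, 5, 5], [2, 3, 3, 4, 4, 5, 5], [1, 3, 3, 5], [1, 2, 3, 5, 6, 6], [1, 2, 3, 3], [0, 1, 1, 2, 2, 3, 3, 5]]

/-- The cover over the alternating lift: the cosets. -/
def cosG : Cos where
  reps := [t279, t0, t1, t2, t4, t5, t25, t738, t739, t63, t249, t740, t144, t741, t742, t743, t28, t744, t149, t293, t26, t745, t302, t3, t746, t747, t748, t749, t750, t751, t752, t753, t754, t260, t755, t756, t757, t758, t126, t759, t760, t761, t64, t762, t763, t153, t764, t765, t766, t767, t768, t769, t770, t771, t772, t773, t774, t775, t776, t777, t778, t779, t780, t781, t782, t783, t784, t785, t786, t787, t788, t789, t790, t791, t792, t793, t794, t795, t796, t797, t798, t799, t800, t801, t802, t803, t804, t805, t806, t807, t808, t809, t810, t811, t812, t813, t814, t815, t816, t817, t818, t819, t820,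 t821, t822, t823, t824, t825, t826, t827, t828, t829, t830, t831, t832, t833, t834, t835, t836, t837, t838, t839, t840, t841, t842, t843, t844, t845, t846, t847, t136, t848, t849, t850, t851, t852, t853, t854, t855, t856, t857, t858, t859, t860, t861, t862, t863, t864, t865, t866, t867, t868, t869, t870, t871, t872, t873, t874, t875, t876, t877, t878, t879, t880, t881, t882, t883, t884, t885, t886, t887, t888, t889, t890, t891, t892, t893, t894, t895, t896, t897, t898, t899, t900, t901, t902, t903, t904, t905, t906, t907, t908, t909, t910, t911, t912, t913, t914, t915, t916, t917, t918, t919, t920, t921, t922, t923, t924, t925, t926, t927, t68, t928, t929, t930, t931, t932, t933, t934, t935, t936, t937, t938, t939, t940, t941, t942, t943, t944, t945, t946, t947, t948, t949, t950, t951, t952, t953, t954, t955, t956, t957, t958, t959, t960, t961, t962, t963, t964, t965, t966, t967,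 t968, t969, t970, t971, t972, t973, t974, t975, t976, t977, t978, t979, t980, t981, t982, t983, t984, t985, t986, t987, t988, t989, t990, t991, t992, t993, t994, t995, t996, t997, t998, t999, t1000, t1001, t1002, t1003, t1004, t1005, t1006, t1007, t1008, t1009, t1010, t1011, t1012, t1013, t1014, t1015, t1016, t1017, t1018, t1019, t1020, t1021, t1022, t1023, t1024, t1025, t1026, t1027, t1028, t1029, t1030, t1031, t1032, t1033, t1034, t1035, t1036, t1037, t1038, t1039, t1040, t1041, t1042, t1043, t1044, t1045, t1046, t1047, t1048, t1049, t1050, t1051, t1052, t1053, t1054, t1055, t1056, t1057, t1058, t1059, t1060, t1061, t1062, t1063, t1064, t1065, t1066, t1067, t1068, t1069, t1070, t1071, t1072, t1073, t1074, t1075, t1076, t1077, t1078, t1079, t1080, t1081, t1082, t1083, t1084, t1085, t1086, t1087, t1088, t1089, t1090, t1091, t1092, t1093, t1094, t1095, t1096, t1097, t1098, t1099,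 t1100, t1101, t1102, t1103, t1104, t1105, t1106, t1107, t1108, t1109, t1110, t1111, t1112, t1113, t1114, t1115, t1116, t1117, t1118, t1119, t1120, t1121, t1122, t1123, t1124, t1125, t1126, t1127, t1128, t1129, t1130, t1131, t1132, t1133, t1134, t1135, t1136, t1137, t1138, t1139, t1140, t1141, t1142, t1143, t1144, t1145, t1146, t1147, t1148, t1149, t1150, t1151, t1152, t1153, t1154, t1155, t1156, t1157, t1158, t1159, t1160, t1161, t1162, t1163]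
  wit0 := [[0, 0, 0, 0], [0, 0, 0, 0], [0, 0, 0, 0], [0, 0, 0, 0], [0, 0, 0, 0], [0, 0, 0, 0], [0, 0, 0, 0], [0, 0, 0, 0], [0, 0, 0, 0], [0, 0, 0, 0], [0, 0, 0, 0], [0, 0, 0, 0], [0, 0, 0, 0], [0, 0, 0, 0], [0, 0, 0, 0], [0, 0, 0, 0], [4, 0, 27, 0], [0, 0, 0, 0], [0, 0, 0, 0], [0, 0, 0, 0], [0, 0, 0, 0], [4, 0, 27, 0], [0, 0, 0, 0], [0, 0, 0, 0], [0, 0, 0, 0], [0, 0, 0, 0], [0, 0, 0, 0], [0, 0, 0, 0], [0, 0, 0, 0], [0, 0, 0, 0], [0, 0, 0, 0], [0, 0, 0, 0], [0, 0, 0, 0], [0, 0, 0, 0], [0, 0, 0, 0], [0, 0, 0, 0], [0, 0, 0, 0], [0, 0, 0, 0], [0, 0, 0, 0], [0, 0, 0, 0], [1, 0, 23, 2], [0, 0, 0, 0], [0, 0, 0, 0], [0, 0, 0, 0], [0, 0, 0, 0], [0, 0, 0, 0], [1, 0, 23, 2], [0, 0, 0, 0], [0, 0, 0, 0], [0, 0, 0, 0], [0, 0, 0, 0], [0, 0, 0, 0], [0, 0, 0, 0], [0, 0, 0, 0], [0, 0, 0, 0], [0, 0, 0, 0], [1, 0, 23, 2], [0, 0, 0, 0], [4, 0, 27, 0], [0, 0, 0, 0], [0, 0, 0, 0], [2, 0, 34, 1], [0, 0,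 0, 0], [0, 0, 0, 0], [0, 0, 0, 0], [0, 0, 0, 0], [0, 0, 0, 0], [0, 0, 21, 0], [0, 0, 0, 0], [0, 0, 0, 0], [0, 0, 0, 0], [0, 0, 0, 0], [0, 0, 0, 0], [0, 0, 0, 0], [0, 0, 0, 0], [0, 0, 0, 0], [8, 0, 14, 2], [0, 0, 0, 0], [0, 0, 0, 0], [0, 0, 0, 0], [0, 0, 0, 0], [8, 0, 37, 0], [0, 0, 0, 0], [0, 0, 0, 0], [0, 0, 0, 0], [0, 0, 0, 0], [0, 0, 0, 0], [0, 0, 0, 0], [0, 0, 0, 0], [0, 0, 0, 0], [0, 0, 0, 0], [0, 0, 0, 0], [0, 0, 0, 0], [0, 0, 0, 0], [0, 0, 0, 0], [0, 0, 0, 0], [8, 0, 32, 0], [0, 0, 0, 0], [4, 0, 27, 0], [0, 0, 0, 0], [4, 0, 27, 0], [0, 0, 0, 0], [0, 0, 0, 0], [0, 0, 0, 0], [12, 0, 24, 2], [0, 0, 0, 0], [0, 0, 0, 0], [0, 0, 0, 0], [0, 0, 0, 0], [11, 0, 37, 1], [0, 0, 14, 2], [0, 0, 0, 0], [1, 0, 27, 2], [0, 0, 0, 0], [0, 0, 0, 0], [0, 0, 0, 0], [0, 0, 0, 0], [0, 0, 24, 1], [0, 0, 0, 0], [0, 0, 0, 0], [0, 0, 0, 0], [0, 0, 0, 0], [0, 0, 0, 0], [2, 0, 20, 0], [9, 0, 2, 2], [0,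 0, 0, 0], [0, 0, 0, 0], [3, 0, 17, 0], [0, 0, 0, 0], [0, 0, 0, 0], [0, 0, 0, 0], [0, 0, 0, 0], [9, 0, 22, 1], [0, 0, 0, 0], [0, 0, 0, 0], [0, 0, 0, 0], [0, 0, 0, 0], [0, 0, 0, 0], [0, 0, 0, 0], [16, 0, 17, 1], [17, 0, 11, 1], [0, 0, 0, 0], [8, 0, 24, 2], [0, 0, 0, 0], [0, 0, 0, 0], [0, 0, 0, 0], [1, 0, 33, 2], [0, 0, 0, 0], [0, 0, 0, 0], [0, 0, 0, 0], [0, 0, 0, 0], [0, 0, 0, 0], [0, 0, 0, 0], [0, 0, 0, 0], [0, 0, 0, 0], [0, 0, 0, 0], [0, 0, 0, 0], [0, 0, 0, 0], [4, 0, 27, 0], [0, 0, 0, 0], [0, 0, 0, 0], [2, 0, 31, 0], [9, 0, 0, 2], [12, 0, 21, 1], [4, 0, 23, 0], [0, 0, 0, 0], [4, 0, 27, 0], [10, 0, 29, 1], [13, 0, 11, 0], [9, 0, 6, 0], [7, 0, 15, 0], [0, 0, 0, 0], [0, 0, 0, 0], [0, 0, 0, 0], [12, 0, 13, 0], [0, 0, 0, 0], [13, 0, 3, 0], [1, 0, 23, 2], [0, 0, 0, 0], [15, 0, 16, 0], [17, 0, 0, 1], [12, 0, 26, 0], [0, 0, 0, 0], [7, 0, 12, 0], [0, 0, 0, 0], [14, 0, 29, 1], [0, 0, 0, 0],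 [0, 0, 0, 0], [0, 0, 0, 0], [0, 0, 0, 0], [6, 0, 23, 0], [0, 0, 0, 0], [0, 0, 0, 0], [1, 0, 23, 2], [15, 0, 25, 2], [15, 0, 28, 2], [1, 0, 18, 2], [11, 0, 21, 2], [0, 0, 0, 0], [0, 0, 0, 0], [0, 0, 0, 0], [0, 0, 0, 0], [0, 0, 0, 0], [0, 0, 0, 0], [0, 0, 0, 0], [0, 0, 0, 0], [0, 0, 0, 0], [0, 0, 0, 0], [0, 0, 0, 0], [0, 0, 0, 0], [0, 0, 0, 0], [0, 0, 0, 0], [0, 0, 0, 0], [16, 0, 17, 1], [0, 0, 0, 0], [0, 0, 0, 0], [0, 0, 0, 0], [1, 0, 38, 0], [0, 0, 0, 0], [7, 0, 16, 2], [0, 0, 0, 0], [0, 0, 0, 0], [14, 0, 27, 1], [0, 0, 0, 0], [16, 0, 39, 1], [0, 0, 0, 0], [8, 0, 13, 1], [0, 0, 0, 0], [0, 0, 0, 0], [0, 0, 0, 0], [7, 0, 20, 2], [5, 0, 22, 0], [0, 0, 0, 0], [11, 0, 4, 1], [0, 0, 0, 0], [0, 0, 0, 0], [16, 0, 1, 1], [12, 0, 25, 0], [0, 0, 0, 0], [0, 0, 0, 0], [0, 0, 0, 0], [0, 0, 0, 0], [4, 0, 9, 1], [12, 0, 27, 0], [0, 0, 0, 0], [1, 0, 23, 2], [0, 0, 0, 0], [5, 0, 0, 0], [0, 0, 0, 0],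 [0, 0, 0, 0], [0, 0, 0, 0], [2, 0, 21, 0], [0, 0, 0, 0], [3, 0, 19, 2], [0, 0, 0, 0], [12, 0, 2, 0], [0, 0, 0, 0], [17, 0, 11, 1], [0, 0, 0, 0], [0, 0, 0, 0], [0, 0, 0, 0], [0, 0, 0, 0], [0, 0, 0, 0], [0, 0, 0, 0], [2, 0, 18, 1], [8, 0, 0, 1], [0, 0, 0, 0], [7, 0, 28, 1], [2, 0, 6, 2], [1, 0, 23, 2], [15, 0, 35, 0], [0, 0, 0, 0], [0, 0, 0, 0], [0, 0, 0, 0], [0, 0, 0, 0], [0, 0, 0, 0], [0, 0, 0, 0], [0, 0, 0, 0], [0, 0, 0, 0], [12, 0, 13, 0], [1, 0, 6, 2], [0, 0, 0, 0], [0, 0, 0, 0], [0, 0, 3, 1], [0, 0, 0, 0], [10, 0, 10, 2], [4, 0, 10, 1], [0, 0, 0, 0], [4, 0, 27, 0], [0, 0, 0, 0], [4, 0, 27, 0], [17, 0, 19, 0], [3, 0, 6, 2], [0, 0, 0, 0], [0, 0, 0, 0], [9, 0, 21, 2], [1, 0, 4, 2], [14, 0, 39, 0], [5, 0, 17, 1], [0, 0, 0, 0], [0, 0, 0, 0], [0, 0, 0, 0], [0, 0, 0, 0], [0, 0, 0, 0], [14, 0, 3, 2], [17, 0, 31, 0], [0, 0, 0, 0], [9, 0, 20, 1], [0, 0, 0, 0], [0, 0, 0, 0], [5, 0, 33,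 0], [1, 0, 35, 2], [0, 0, 0, 0], [0, 0, 0, 0], [0, 0, 0, 0], [0, 0, 0, 0], [0, 0, 0, 0], [0, 0, 0, 0], [0, 0, 0, 0], [0, 0, 0, 0], [11, 0, 1, 1], [10, 0, 27, 2], [0, 0, 0, 0], [3, 0, 3, 1], [0, 0, 0, 0], [10, 0, 23, 2], [0, 0, 0, 0], [6, 0, 27, 0], [0, 0, 0, 0], [7, 0, 8, 2], [6, 0, 10, 2], [0, 0, 0, 0], [0, 0, 0, 0], [0, 0, 0, 0], [0, 0, 0, 0], [10, 0, 8, 0], [0, 0, 0, 0], [8, 0, 19, 2], [0, 0, 0, 0], [0, 0, 0, 0], [15, 0, 25, 2], [0, 0, 0, 0], [7, 0, 1, 2], [5, 0, 5, 2], [3, 0, 8, 2], [15, 0, 20, 2], [9, 0, 35, 2], [0, 0, 0, 0], [0, 0, 0, 0], [0, 0, 0, 0], [14, 0, 35, 1], [0, 0, 0, 0], [0, 0, 0, 0], [5, 0, 17, 1], [5, 0, 23, 2], [0, 0, 0, 0], [2, 0, 15, 2], [3, 0, 27, 0], [7, 0, 19, 2], [0, 0, 0, 0], [3, 0, 31, 1], [0, 0, 0, 0], [6, 0, 32, 0], [9, 0, 28, 1], [0, 0, 0, 0], [0, 0, 0, 0], [13, 0, 5, 2], [4, 0, 27, 0], [5, 0, 1, 1], [11, 0, 27, 0], [0, 0, 0, 0], [10, 0, 32, 1], [0,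 0, 0, 0], [0, 0, 0, 0], [0, 0, 0, 0], [8, 0, 17, 2], [1, 0, 30, 0], [6, 0, 17, 0], [0, 0, 0, 0], [3, 0, 19, 0], [0, 0, 0, 0], [1, 0, 4, 1], [4, 0, 27, 1], [0, 0, 6, 2], [6, 0, 7, 1], [0, 0, 0, 0], [16, 0, 10, 0], [12, 0, 29, 0], [11, 0, 7, 0], [0, 0, 0, 0], [0, 0, 0, 0], [11, 0, 33, 2], [9, 0, 9, 2], [0, 0, 0, 0], [7, 0, 24, 0], [0, 0, 0, 0], [2, 0, 25, 2], [0, 0, 0, 0], [0, 0, 0, 0], [11, 0, 23, 0], [11, 0, 30, 1], [0, 0, 0, 0], [16, 0, 24, 0], [4, 0, 33, 0], [7, 0, 15, 1], [15, 0, 18, 2], [9, 0, 32, 2], [0, 0, 0, 0], [0, 0, 0, 0], [3, 0, 33, 0], [0, 0, 0, 0], [0, 0, 0, 0], [0, 0, 0, 0], [5, 0, 2, 2], [15, 0, 14, 2], [0, 0, 0, 0], [7, 0, 22, 2], [0, 0, 0, 0], [15, 0, 22, 0], [11, 0, 38, 1], [5, 0, 2, 2], [16, 0, 26, 2], [4, 0, 33, 0], [9, 0, 22, 0], [13, 0, 6, 1], [0, 0, 0, 0], [10, 0, 16, 1], [0, 0, 0, 0], [9, 0, 15, 2], [0, 0, 0, 0], [8, 0, 10, 0], [0, 0, 0, 0], [2, 0, 1, 1],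 [5, 0, 8, 1], [16, 0, 5, 0], [14, 0, 35, 2], [0, 0, 0, 0], [5, 0, 13, 2], [13, 0, 16, 0], [0, 0, 0, 0], [3, 0, 17, 2], [0, 0, 0, 0], [3, 0, 26, 0], [12, 0, 38, 1], [3, 0, 13, 2], [1, 0, 23, 2], [0, 0, 0, 0], [17, 0, 10, 2]]
  wit1 := [[0, 0, 0, 0], [0, 0, 0, 0], [0, 0, 0, 0], [0, 0, 0, 0], [0, 0, 0, 0], [1, 0, 27, 2], [0, 0, 0, 0], [0, 0, 0, 0], [0, 0, 0, 0], [0, 0, 0, 0], [0, 0, 0, 0], [0, 0, 0, 0], [0, 0, 0, 0], [0, 0, 0, 0], [0, 0, 0, 0], [0, 0, 0, 0], [0, 0, 0, 0], [0, 0, 0, 0], [0, 0, 0, 0], [0, 0, 0, 0], [0, 0, 0, 0], [0, 0, 0, 0], [0, 0, 0, 0], [0, 0, 0, 0], [0, 0, 0, 0], [0, 0, 0, 0], [0, 0, 0, 0], [4, 0, 23, 0], [0, 0, 0, 0], [0, 0, 0, 0], [0, 0, 0, 0], [0, 0, 0, 0], [0, 0, 0, 0], [0, 0, 0, 0], [0, 0, 0, 0], [0, 0, 0, 0], [0, 0, 0, 0], [0, 0, 0, 0], [0, 0, 0, 0], [0, 0, 0, 0], [0, 0, 0, 0], [0, 0, 0, 0], [1, 0, 27, 2], [0, 0, 0, 0], [0, 0, 0, 0], [0, 0, 0, 0], [0, 0, 0,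 0], [0, 0, 0, 0], [0, 0, 0, 0], [0, 0, 0, 0], [0, 0, 0, 0], [0, 0, 0, 0], [1, 0, 27, 2], [0, 0, 0, 0], [0, 0, 0, 0], [0, 0, 0, 0], [0, 0, 0, 0], [0, 0, 0, 0], [0, 0, 0, 0], [0, 0, 0, 0], [4, 0, 23, 0], [0, 0, 0, 0], [0, 0, 0, 0], [17, 0, 7, 2], [0, 0, 0, 0], [0, 0, 0, 0], [4, 0, 27, 0], [11, 0, 18, 2], [0, 0, 0, 0], [0, 0, 0, 0], [0, 0, 0, 0], [0, 0, 0, 0], [1, 0, 32, 2], [0, 0, 0, 0], [0, 0, 0, 0], [1, 0, 27, 2], [0, 0, 0, 0], [0, 0, 0, 0], [0, 0, 0, 0], [0, 0, 0, 0], [0, 0, 0, 0], [0, 0, 0, 0], [0, 0, 0, 0], [16, 0, 37, 1], [0, 0, 0, 0], [0, 0, 0, 0], [0, 0, 0, 0], [0, 0, 0, 0], [0, 0, 0, 0], [0, 0, 0, 0], [0, 0, 0, 0], [0, 0, 0, 0], [1, 0, 27, 2], [0, 0, 0, 0], [0, 0, 0, 0], [0, 0, 0, 0], [0, 0, 0, 0], [0, 0, 0, 0], [0, 0, 0, 0], [0, 0, 0, 0], [0, 0, 0, 0], [0, 0, 0, 0], [4, 0, 23, 0], [12, 0, 4, 0], [0, 0, 0, 0], [0, 0, 0, 0], [0, 0, 0, 0], [0, 0, 0, 0], [0, 0, 0, 0], [4, 0,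 27, 0], [0, 0, 0, 0], [7, 0, 31, 2], [0, 0, 0, 0], [7, 0, 34, 2], [1, 0, 23, 2], [0, 0, 0, 0], [13, 0, 3, 0], [0, 0, 0, 0], [0, 0, 0, 0], [0, 0, 0, 0], [0, 0, 0, 0], [0, 0, 0, 0], [0, 0, 0, 0], [1, 0, 27, 2], [0, 0, 0, 0], [0, 0, 0, 0], [1, 0, 27, 2], [0, 0, 0, 0], [0, 0, 0, 0], [0, 0, 0, 0], [0, 0, 0, 0], [0, 0, 0, 0], [0, 0, 6, 1], [0, 0, 0, 0], [0, 0, 0, 0], [0, 0, 0, 0], [0, 0, 0, 0], [0, 0, 0, 0], [2, 0, 6, 1], [0, 0, 0, 0], [9, 0, 33, 2], [0, 0, 0, 0], [0, 0, 0, 0], [0, 0, 17, 0], [0, 0, 0, 0], [0, 0, 0, 0], [0, 0, 0, 0], [0, 0, 0, 0], [0, 0, 0, 0], [0, 0, 0, 0], [1, 0, 27, 2], [0, 0, 0, 0], [4, 0, 27, 0], [14, 0, 27, 2], [4, 0, 23, 0], [0, 0, 0, 0], [0, 0, 0, 0], [0, 0, 0, 0], [0, 0, 0, 0], [15, 0, 1, 0], [16, 0, 29, 0], [0, 0, 0, 0], [1, 0, 19, 2], [0, 0, 0, 0], [5, 0, 2, 0], [0, 0, 0, 0], [0, 0, 0, 0], [0, 0, 0, 0], [4, 0, 23, 0], [0, 0, 0, 0], [0, 0, 6, 1], [12, 0, 28,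 0], [3, 0, 37, 2], [15, 0, 17, 0], [0, 0, 6, 1], [0, 0, 0, 0], [0, 0, 0, 0], [4, 0, 2, 2], [0, 0, 0, 0], [0, 0, 0, 0], [17, 0, 13, 2], [1, 0, 23, 2], [1, 0, 3, 0], [8, 0, 4, 2], [0, 0, 0, 0], [17, 0, 37, 2], [0, 0, 0, 0], [0, 0, 0, 0], [0, 0, 0, 0], [0, 0, 0, 0], [0, 0, 0, 0], [1, 0, 27, 2], [0, 0, 0, 0], [0, 0, 0, 0], [11, 0, 6, 2], [0, 0, 0, 0], [0, 0, 0, 0], [9, 0, 26, 1], [0, 0, 0, 0], [5, 0, 6, 1], [0, 0, 0, 0], [0, 0, 0, 0], [1, 0, 27, 2], [0, 0, 0, 0], [12, 0, 9, 1], [0, 0, 0, 0], [15, 0, 32, 0], [0, 0, 0, 0], [0, 0, 0, 0], [0, 0, 0, 0], [0, 0, 0, 0], [0, 0, 0, 0], [0, 0, 6, 1], [0, 0, 0, 0], [0, 0, 0, 0], [0, 0, 0, 0], [0, 0, 0, 0], [0, 0, 0, 0], [12, 0, 15, 0], [12, 0, 13, 0], [1, 0, 35, 2], [0, 0, 0, 0], [0, 0, 0, 0], [0, 0, 0, 0], [4, 0, 27, 0], [17, 0, 16, 0], [0, 0, 0, 0], [4, 0, 23, 0], [0, 0, 0, 0], [0, 0, 0, 0], [0, 0, 0, 0], [0, 0, 0, 0], [8, 0, 8, 0], [0, 0, 0,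 0], [0, 0, 0, 0], [0, 0, 0, 0], [0, 0, 0, 0], [0, 0, 0, 0], [0, 0, 0, 0], [0, 0, 0, 0], [4, 0, 7, 1], [8, 0, 3, 1], [0, 0, 0, 0], [0, 0, 0, 0], [0, 0, 6, 1], [11, 0, 28, 0], [0, 0, 0, 0], [0, 0, 0, 0], [0, 0, 0, 0], [0, 0, 0, 0], [0, 0, 0, 0], [6, 0, 22, 1], [0, 0, 0, 0], [9, 0, 34, 2], [11, 0, 12, 2], [0, 0, 0, 0], [0, 0, 0, 0], [8, 0, 5, 1], [0, 0, 0, 0], [0, 0, 38, 0], [7, 0, 3, 0], [0, 0, 0, 0], [1, 0, 27, 2], [0, 0, 1, 1], [0, 0, 38, 0], [2, 0, 16, 0], [0, 0, 0, 0], [3, 0, 20, 1], [0, 0, 38, 0], [0, 0, 0, 0], [0, 0, 0, 0], [0, 0, 0, 0], [0, 0, 0, 0], [0, 0, 0, 0], [7, 0, 28, 1], [0, 0, 0, 0], [0, 0, 0, 0], [1, 0, 27, 2], [0, 0, 0, 0], [0, 0, 0, 0], [0, 0, 0, 0], [15, 0, 1, 2], [0, 0, 6, 1], [0, 0, 0, 0], [4, 0, 17, 1], [0, 0, 0, 0], [0, 0, 0, 0], [0, 0, 0, 0], [0, 0, 0, 0], [0, 0, 0, 0], [0, 0, 0, 0], [16, 0, 38, 0], [12, 0, 7, 2], [16, 0, 20, 2], [9, 0, 14, 0], [0, 0, 0, 0],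 [0, 0, 0, 0], [4, 0, 23, 0], [0, 0, 0, 0], [9, 0, 31, 2], [0, 0, 0, 0], [10, 0, 27, 1], [13, 0, 23, 1], [0, 0, 0, 0], [4, 0, 27, 0], [9, 0, 37, 0], [1, 0, 33, 0], [0, 0, 0, 0], [8, 0, 37, 1], [0, 0, 0, 0], [9, 0, 24, 2], [10, 0, 2, 1], [0, 0, 0, 0], [0, 0, 0, 0], [1, 0, 37, 0], [15, 0, 7, 1], [0, 0, 0, 0], [0, 0, 0, 0], [0, 0, 0, 0], [0, 0, 0, 0], [0, 0, 0, 0], [0, 0, 0, 0], [0, 0, 6, 1], [0, 0, 0, 0], [2, 0, 12, 2], [0, 0, 0, 0], [5, 0, 5, 1], [0, 0, 0, 0], [0, 0, 0, 0], [0, 0, 0, 0], [14, 0, 5, 1], [0, 0, 0, 0], [0, 0, 0, 0], [0, 0, 0, 0], [0, 0, 39, 1], [0, 0, 0, 0], [0, 0, 0, 0], [1, 0, 0, 1], [10, 0, 8, 2], [17, 0, 3, 2], [15, 0, 11, 1], [17, 0, 8, 1], [0, 0, 0, 0], [7, 0, 17, 2], [0, 0, 0, 0], [1, 0, 27, 2], [15, 0, 39, 0], [13, 0, 21, 1], [0, 0, 0, 0], [1, 0, 38, 0], [1, 0, 39, 1], [6, 0, 33, 2], [9, 0, 2, 2], [0, 0, 0, 0], [16, 0, 13, 0], [0, 0, 1, 0], [0, 0, 0, 0], [7, 0,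 35, 2], [12, 0, 10, 2], [4, 0, 27, 0], [17, 0, 15, 1], [0, 0, 0, 0], [0, 0, 0, 0], [0, 0, 0, 0], [0, 0, 0, 0], [0, 0, 0, 0], [4, 0, 23, 0], [0, 0, 0, 0], [9, 0, 33, 0], [8, 0, 23, 0], [8, 0, 27, 1], [4, 0, 21, 0], [11, 0, 21, 2], [0, 0, 0, 0], [5, 0, 38, 1], [0, 0, 0, 0], [0, 0, 0, 0], [1, 0, 20, 2], [10, 0, 28, 0], [7, 0, 16, 2], [13, 0, 10, 2], [1, 0, 7, 2], [2, 0, 22, 2], [1, 0, 23, 2], [0, 0, 0, 0], [12, 0, 21, 1], [10, 0, 19, 1], [0, 0, 0, 0], [0, 0, 0, 0], [0, 0, 0, 0], [1, 0, 27, 2], [0, 0, 0, 0], [11, 0, 6, 2], [1, 0, 14, 2], [5, 0, 6, 1], [12, 0, 28, 2], [0, 0, 0, 0], [6, 0, 25, 2], [2, 0, 27, 1], [16, 0, 21, 2], [16, 0, 5, 2], [4, 0, 32, 0], [15, 0, 37, 0], [15, 0, 0, 0], [13, 0, 7, 0], [0, 0, 6, 1], [15, 0, 38, 2], [1, 0, 27, 2], [0, 0, 0, 0], [0, 0, 6, 1], [0, 0, 11, 1], [0, 0, 0, 0], [0, 0, 0, 0], [2, 0, 21, 0], [4, 0, 8, 2], [0, 0, 0, 0], [0, 0, 0, 0], [0, 0, 0, 0],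 [1, 0, 23, 1], [14, 0, 25, 0], [16, 0, 6, 0], [13, 0, 12, 2], [8, 0, 15, 0], [7, 0, 36, 2], [9, 0, 35, 1], [0, 0, 31, 0], [3, 0, 25, 0], [9, 0, 29, 1], [14, 0, 38, 1], [4, 0, 19, 2], [5, 0, 29, 2], [0, 0, 26, 0], [4, 0, 23, 1], [0, 0, 0, 0], [15, 0, 3, 2], [11, 0, 38, 2], [9, 0, 31, 1], [9, 0, 29, 0], [0, 0, 13, 2], [0, 0, 36, 1], [14, 0, 17, 0], [11, 0, 17, 1], [16, 0, 30, 0], [8, 0, 20, 0], [0, 0, 0, 0], [0, 0, 1, 0], [2, 0, 26, 0], [1, 0, 32, 2]]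
  path0 := [23, 0, 25, 0]
  path1 := [0, 0, 30, 5]

/-- The cover over the alternating lift: the certificate. -/
def cosGCert : StemCert where
  N := 448
  m := 27
  w := 9
  tab0 := 0xd8efedfb0c66eab9b8a96dae13fd55a37da39e60a695697e825b7bb057f5d4dde49e3fb3dee9f4dbbdcc523710dbc4eb594d24460ba895c0a019c7e41df5b5d66d365037ee975f6490516faf1c86b62d2aac6add5a9b9ba31f88cfd99c8e3bbdab4585d0d45cb3a6bbcf339ecede5a79bcd5432d6bc961f315467e5edd95c5323279163611e58e7be36738b65e26fed9c32ef07815b602fd7c583855f7a675e26329bb5d6e972b8cc9d765b4db6d89f9b5253541b3a8e3a95b0d8ec4976ad7abb5baca42af55a9ccd3d0ca1a268ee7a7d3a994ba55220346492067b445f50a813e849f54d3b8cc8a71379a9c91c9c984b90d2c64c92512692bb2467f90a84bf1e8c179f31c8d175a9178a96e245a87c3a1a5785c2a11062ac11d2c4332a4c4ff7f2f5f64f7c3d8d6f5303d09aaa29928c8f077a2ddc46769e106445cae082706e30d323e7333478e27037dbcdd6db69b0d61bb01a4d1682ac6a8c39b31943363b1464b3613057e304daf1747c5aadc5ab4592c4862b572b55869149b9502753a95484c12a8940764ea08467a4c259289348a3d1a1f452210e854207448803f070f6403c9dcea740c9c4de6d249b0d46833994a2633085c26152e048b2582b150a45027040960e2411c8a3a210307e3d1d8e470361a024622f170b05407140984206110803c1b0206830160a008220f0682c1408000140601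
  tab1 := 0xdfe477ad2dce7a8cedaf66b6528dbbe17574b3e769180da3db37abddd2e94fba26a77c9449e8af1bcdd3ff2bb87136da189d7c3ac559c6deafdb6b8a29c157dae8767b1d85d703ae986b63d268d60f31ac35533558e9ba47270fd425b4fa6d2e93475dc5d6e5da0b1e1b3f2cb94f97f9c9c3bed999be166a6e6cbdda6b96ca158a992c837ca58f285b718dec52149d88c3e1709823ac12ff7d8bb46f6c5bca91acb2bbad1fd7356dc22b6fb7502775543daed569b459acaa5b24354f61b057cc75cad53eb156aa54aa34e91d41314285c869a77845248b47a2c71442f8350e833f9ecf05cee9d4e64a679b4d2673298cbe5a8f95caa532765491b512914823e7466170411d8dc6630ae8b4522711882c43d0a860ee1307444156f03811a203006ebf5f8fa7cbddea1a7a234dad879bc8f2f1780d8caac60a11d87b75ba9d26c741c5cea02c395c8e3709f8dec76e275b2d76ab51a6116133d9c3d66af196c96431988286183d80be5e88976b9132e16cb55983560385790900ab1a2a858a95429816a32392d429f4f271369a4ca5d2a61492411c8c45a2410860b20d04813f9f4f87a0a1e0ec48399c8e06e18860d6691f998c82a31180be5e2e96cb4392b954a65127934984a248288c4421904803e1e0e802371a8cc6430028b456290009c4a24118843e1d0e06c32170a84c2410070300609038180802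
  parI := 0x556b55f9925595b4aa89cf73955722aab65eae95ab5b12af368f1fba12b8eb596b698f4adea55a4eb54d4a55ecaab65b54ad2ababaad52d4
  parX := 0xdf6873f9cce66f3798cbe330f86c2e170983c0e02f578bb5d6e96fb6db2d76ab4da6cf64b0d82bf5cae56eb155a9542a14fa6d32994ba45228d45a250e85409fcfe7d3d9ecf2793a9cce671389acd2673297cbe5d2d964b2572a9449e4d2591486411f8fc7a3b1b8d46631178b45a2b148a44e271188c42210f87c3a1b0a83c1a0b058240e050280401fefc7d3e9f2f97c3e1eef67a3cde4f1783bddeee76bb1d6eb753a9d2e873b99cae572391c6e270b7dbede6eb71b0d86bb5dacd56a34da6d268b45a0cf67b399acb65b2992c9643218cc66230d82c0602fd7cbd5eaf176bb5d2e970b659ac960af57ab556a953a994aa350a7d3c9d4e271369b4d26530974ba592a954a251269248a45208f47235168a44a25108743a190c8541a0d048140a00fe7e3e9f4f87a3d1e4f0783b9dcec75399cce471381b8d86b359a8d46934198ca653218cc66230980be5f2f178ba5d2e16cb65a2d164b2582b95cac562a950a85329144a0502793c9c4d26930964a251249248239188c452291088422090480401f8f87c3d1e0ec763a1c8e06e371b0d46a34198cc6432188c46030178bc5c2d168b0562b150a452281389c4c25128904823118884421100803e1f0f0743a1c0e06c341a0c86430170b0582a140984c241208844200f070381a0d06030160b0502412080401c0e06030140804018080401008000000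
  spec := (3, 16)
  rels := [
    [0, 0, 0],
    [1, 1, 1, 1, 1],
    [0, 0, 0, 1, 1, 1, 1, 1],
    [1, 1, 1, 1, 1, 0, 0, 0],
    [0, 0, 0, 1, 0, 0, 0, 1, 1, 1, 1],
    [1, 1, 1, 1, 1, 0, 0, 0, 0, 0, 0],
    [0, 1, 0, 0, 1, 1, 0, 0, 1, 0, 0, 1, 1, 0, 1, 1, 0, 0, 0, 0, 1, 1, 1, 1, 0, 0, 0, 0, 1, 1, 1, 1, 0, 0, 0, 0, 1, 1, 1, 1, 1, 1, 1, 1, 1, 1, 1, 1, 1, 1, 1, 1, 0, 0, 0, 0, 1, 1, 1, 1, 0, 0, 1, 1, 1, 1, 1, 1, 1, 1],
    [1, 1, 1, 1, 0, 0, 1, 0, 1, 1, 1, 1, 0, 0, 1, 1, 1, 0, 0, 1, 1, 1, 1, 0, 0, 1, 1, 1, 1, 0, 0, 0, 0, 1, 1, 1, 1, 1, 1, 1, 1, 0, 0, 1, 1, 1, 1, 0, 0, 1, 1, 1, 1, 1, 1, 1, 1, 1, 1, 1, 1, 0, 0, 1, 1, 1, 1, 0, 0],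
    [0, 0, 0, 1, 1, 0, 1, 1, 1, 0, 1, 1, 0, 0, 1, 0, 0, 0, 0, 0, 0, 1, 1, 1, 1, 0, 0, 0, 0, 1, 1, 1, 1, 1, 1, 1, 1, 0, 0, 1, 1, 1, 1, 1, 1, 1, 1, 1, 1, 1, 1, 0, 0, 1, 1, 1, 1, 1, 1, 1, 1],
    [1, 1, 1, 1, 1, 0, 1, 0, 0, 1, 0, 1, 1, 1, 0, 1, 1, 1, 1, 1, 0, 0, 1, 1, 1, 1, 1, 1, 1, 1, 1, 1, 1, 1, 0, 0, 1, 1, 1, 1, 0, 0, 0, 0, 1, 1, 1, 1, 0, 0],
    [0, 0, 0, 1, 0, 0, 1, 1, 1, 0, 0, 1, 1, 1, 0, 0, 1, 1, 1, 1, 1, 0, 0, 0, 0, 1, 1, 1, 1, 1, 1, 1, 1, 1, 1, 1, 1, 0, 0, 0, 0, 1, 1, 1, 1, 1, 1, 1, 1, 1, 1, 1, 1, 0, 0, 0, 0, 1, 1, 1, 1],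
    [0, 0, 0, 1, 0, 1, 1, 0, 0, 1, 0, 0, 1, 0, 1, 1, 1, 1, 1, 0, 0, 1, 1, 1, 1, 0, 0, 0, 0, 1, 1, 1, 1, 0, 0, 0, 0, 1, 1, 1, 1, 1, 1, 1, 1, 0, 0, 1, 1, 1, 1],
    [1, 0, 1, 0, 1, 1, 0, 1, 1, 1, 0, 1, 1, 1, 1, 0, 0, 1, 1, 1, 1, 0, 0, 1, 1, 1, 1, 0, 0, 0, 0, 1, 1, 1, 1, 1, 1, 1, 1, 1, 1, 1, 1, 0, 0, 1, 1, 1, 1, 0, 0, 0, 0],
    [1, 1, 1, 1, 0, 1, 1, 0, 1, 0, 1, 1, 1, 0, 1, 1, 1, 1, 1, 0, 0, 1, 1, 1, 1, 1, 1, 1, 1, 0, 0, 0, 0, 1, 1, 1, 1, 0, 0, 0, 0, 1, 1, 1, 1, 0, 0, 1, 1, 1, 1, 0, 0],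
    [1, 1, 1, 1, 1, 0, 1, 0, 1, 1, 1, 1, 1, 1, 1, 1, 1, 1, 1, 1, 1, 1, 1, 1, 1, 1, 1, 1, 0, 0, 1, 1, 1, 1, 0, 0],
    [0, 0, 0, 1, 0, 0, 1, 0, 1, 1, 0, 1, 0, 0, 1, 1, 1, 1, 1, 0, 0, 0, 0, 1, 1, 1, 1, 0, 0, 1, 1, 1, 1, 1, 1, 1, 1, 0, 0, 1, 1, 1, 1, 0, 0, 0, 0, 1, 1, 1, 1],
    [0, 0, 0, 1, 0, 0, 1, 0, 0, 1, 1, 1, 1, 0, 1, 0, 0, 0, 1, 1, 1, 1, 0, 0, 1, 1, 1, 1, 1, 1, 1, 1, 1, 1, 1, 1, 1, 1, 1, 1, 0, 0, 0, 0, 1, 1, 1, 1, 0, 0, 0, 0, 1, 1, 1, 1],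
    [0, 0, 0, 1, 1, 0, 0, 1, 1, 0, 0, 1, 0, 1, 0, 0, 0, 1, 1, 1, 1, 0, 0, 1, 1, 1, 1, 0, 0, 0, 0, 1, 1, 1, 1, 1, 1, 1, 1, 0, 0, 0, 0, 1, 1, 1, 1, 1, 1, 1, 1],
    [1, 1, 1, 1, 1, 0, 0, 1, 0, 0, 1, 0, 0, 1, 0, 0, 1, 1, 1, 1, 1, 0, 0, 0, 0, 1, 1, 1, 1, 0, 0, 0, 0, 1, 1, 1, 1, 0, 0, 0, 0, 1, 1, 1, 1, 0, 0, 0, 0],
    [1, 0, 1, 1, 0, 1, 0, 1, 1, 0, 1, 1, 0, 1, 0, 0, 1, 0, 0, 0, 1, 1, 1, 1, 0, 0, 1, 1, 1, 1, 1, 1, 1, 1, 1, 1, 1, 1, 1, 1, 1, 1, 0, 0, 1, 1, 1, 1, 1, 1, 1, 1, 1, 1, 1, 1, 0, 0, 0, 0],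
    [0, 0, 0, 1, 1, 0, 0, 1, 1, 1, 1, 0, 1, 1, 1, 1, 1, 1, 1, 1, 1, 1, 1, 1, 1, 1, 1, 0, 0, 1, 1, 1, 1, 1, 1, 1, 1, 1, 1, 1, 1, 1, 1, 1, 1, 0, 0, 0, 0, 1, 1, 1, 1, 1, 1, 1, 1],
    [0, 0, 0, 1, 1, 0, 0, 1, 0, 0, 1, 0, 1, 0, 0, 1, 0, 0, 0, 0, 0, 0, 1, 1, 1, 1, 0, 0, 0, 0, 1, 1, 1, 1, 0, 0, 1, 1, 1, 1, 0, 0, 0, 0, 1, 1, 1, 1, 0, 0, 0, 0, 1, 1, 1, 1, 1, 1, 1, 1],
    [0, 0, 0, 1, 0, 1, 1, 0, 0, 1, 0, 1, 1, 1, 0, 1, 1, 1, 1, 1, 1, 1, 1, 1, 1, 0, 0, 1, 1, 1, 1, 1, 1, 1, 1, 1, 1, 1, 1, 0, 0, 1, 1, 1, 1, 0, 0, 0, 0, 1, 1, 1, 1, 1, 1, 1, 1, 0, 0, 1, 1, 1, 1],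
    [0, 0, 0, 1, 0, 0, 1, 0, 1, 1, 1, 0, 1, 1, 0, 0, 1, 1, 1, 1, 1, 0, 0, 0, 0, 1, 1, 1, 1, 1, 1, 1, 1, 0, 0, 1, 1, 1, 1, 1, 1, 1, 1, 1, 1, 1, 1, 0, 0, 1, 1, 1, 1, 0, 0, 0, 0, 1, 1, 1, 1],
    [1, 0, 1, 0, 1, 1, 1, 0, 1, 1, 1, 1, 0, 0, 1, 0, 0, 0, 0, 0, 0, 1, 1, 1, 1, 1, 1, 1, 1, 0, 0, 1, 1, 1, 1, 0, 0, 0, 0, 1, 1, 1, 1, 1, 1, 1, 1, 0, 0, 0, 0]]
  vw := 27
  vals := 0x5c20420c00000100000026102087c2002030418015081081a106100020410d04080120010800100004820c00c00000130820424102086c20800e000821a0010432002104c20400d0018418001082210410182000010000406003082a106086000c30400000000000020000005420030084182100000000000000000030904080100000004102082c20010504080070030816106087c2041088408610003040c102084c20c30a00186000000002004083400420384104050810000000000c00c20000000000000000000000c20400400000100000006000082c20c00c800841c083003a104186800810e84084180000000000005800000c00000030810816100007c20800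e80006160800010000000800c0080000000000000000000000000000000007082000200600382002098410000000000000000582043040000003002001e104003820c00a8400010000000e0001044004101840001800000081001060000009800001e0030818104186c00410f00006180000000000000020010000000100000000000000800020800000100000000000005020030000000050830410000000c20000c0000010000000000000000000000000000000000410010440081040000000000000010400040041080000001002043000000100082060000617002082000000000001008408218000000600200200000018000008000000000000142082088008219000083a100184000000000000000000000000000000000000000060810c3000000082002010000210000000000000000000010408410000000000000080041000000000000000000000000000000000006003002c1000040000002000001b0000c14104006c00400400000000000826102104000000384084100000000000001c00020a0000000000002a0041020000000000000000000000000000000002840820b00100000000000000001840861800208300000000000000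0000000000000000000000000000000004083083000000000000000000000000000400200000000038000200002082000000000000000000002080082e102083000010c00000100000000000000000000000000020820030000000000000000000000000000000000000c20800000140010020000000800400800000000000008106180000000304186100000000000000420410400000000000004004000000000000000000000000000000000000284082180000028100106020810c801001b082042000000000000028418008000000000000082080058008018000002e006006c00800400000030000010000000000000000000040020830000000000400c00000000000028100104000000000000000000000000000c00c00a00000000830030000000800c0000000000000000000000000000000000000000002a104000000000000000040800800000001000c20000000000000000000000000000000000030020030000000000000800000000000000000000c00c0000000000000000600000600000000000000000000000000000000080000003002001000000000040028010000000000c10610400000008010008000000000000000000000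000010000000000410280040080000000000000000000000000000000000000000000000000000000000003000001000000000000000000000000000000000000000000000010000000c00400200000000000000000000000000000000000000000000000400200000000000000000000002000000000000000000000000000c100082000400800000000000000000004000000000000030010010000000000000000000000000000000000000000000000020830800000000000000000000000000000000000000000000000000000000000000c00400c000000000000000000000000000000000000000000000000000000000001000000000000000000000000000000000040000040000000000000000000000000040000000000000000000000000000000000000000000000000000000000000000000000000000000000000000000000000000000000000000001000000000000000000000000000000000000000000021840000000000800800108301061040000004000000800000100000020000004840820000000161000044204008000861e08004000000038200208000000908304300000020208208000000c0800c2a000000820020684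00000003003c1021858204108000000e0830c00000001400000700186000000000000000000000580002180000010000001000430700002000000010006004800c304000000c002040c100182000000400000080800800000002c20020c0000009083000000208600000000000002003082a100082400830800000030030816002186020030800000080000010104106000000104080060030836102082000000000000080000000000002000000784182160800800002000420000c00000080000016000000000000400000010810030000001c00410d04100030800430000002000c10080102100000000000000800c200000000800000000000018000106800820d000001c00408640082040000000000001000000200000030408208000000800200200000040000000000000000000202043010400010000000a1001820000000040061800000040021800000001840061c08208100000000000004000000000000000000020000000000000000000061061034204100000000800000060000020000000000000c0830420000000000000000000000000000000001c20820d040861a082001c10208600000000000004081002a102082400020c000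00090830000000000820020800000080000014104100000000000000040810c3e10008000000000000000000000000000000000040000000000000000000082081088000010000001200618400000058010010001042000000000000000000000000000000000000000000000008000000e10018000000060400208000000c104084000000000000000000006002100000000480000100000002000000c2002080000000000000000000000000068408001080041000000000000020000018000000c002105400420c00000000000000000001420420c0000006083003000000140040040000008000000810218400000068008408000000000000000000070418610000000000000000000040000000000001000000000000000000000000001000000000000000000000000000000000200000000018418000001a006185c00c10000004180000000000001820810c0000000000001000000000000020400000000000a1001840000003801040e0020834106100000000480104030030820000001c20810800000000000010000001800820b80182080030018006102400000c000000b0020026102103420010a00184080000010000000400000c0000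0080000000000000000000000000000000000000000000000000000000000000000003c2003000000000000000000000102040080000008000001e1040860000000000000000000100000000000000000000d080042000000000000000000000000001410410600000000000000000001c0021020000000000000800000000000000000002841060800000100000000000000000000300300000000020000004040001800000100000000000000000000708000200000020000000000000100208100000000000208000000d000043000000000000000000000000000000000000000000000000000001000000000000000000000000000000000000000070000008000000000000000000040000007080003000000000000000000000000000000000200000000000000000000a10418000000000000000000000000000000000038010018000000000000000080080000009001003000000000000040000000000000000000000000000000000000000000000000000040000000000001000000000000000000000002003000000000000040000000000000000000000000000000000000000000000000000040000000000000000000000000000000000000001000000000000000400018000001000000000000000000000000000000000200000000000000000000000000000000040000000000000000000000000000000000000000000000000000000000000000000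
  seeds := [(453, 25), (601, 26)]
  steps := [(10, 0, 2), (15, 0, 4), (20, 0, 6), (24, 0, 7), (30, 0, 9), (38, 0, 12), (44, 0, 14), (46, 0, 16), (54, 0, 18), (57, 0, 19), (71, 0, 25), (78, 0, 28), (82, 0, 29), (88, 0, 31), (97, 0, 35), (103, 0, 37), (108, 0, 39), (111, 0, 41), (116, 0, 43), (121, 0, 45), (128, 0, 48), (133, 0, 50), (136, 0, 51), (141, 0, 53), (147, 0, 55), (157, 0, 60), (160, 0, 62), (165, 0, 65), (172, 0, 70), (178, 0, 74), (188, 0, 79), (199, 0, 85), (204, 0, 87), (208, 0, 90), (210, 0, 91), (214, 0, 93), (218, 0, 94), (221, 0, 95), (110, 0, 110), (238, 0, 114), (124, 0, 124), (246, 0, 125), (254, 0, 129), (266, 0, 137), (140, 0, 140), (274, 0, 144), (284, 0, 149), (289, 0, 154), (309, 0, 175), (315, 0, 182), (318, 0, 187), (196, 0, 196), (331, 0, 198), (334, 0, 200), (339, 0, 207), (349, 0, 211), (355, 0, 215), (364, 0, 227), (365, 0, 228), (370, 0, 232), (373,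 0, 234), (380, 0, 241), (393, 0, 250), (395, 0, 252), (397, 0, 256), (257, 0, 257), (398, 0, 258), (401, 0, 261), (268, 0, 268), (408, 0, 272), (410, 0, 276), (285, 0, 285), (417, 0, 287), (425, 0, 301), (427, 0, 303), (305, 0, 305), (429, 0, 308), (431, 0, 316), (436, 0, 319), (439, 0, 338), (340, 0, 340), (441, 0, 348), (362, 0, 362), (371, 0, 371), (381, 0, 381), (404, 0, 404), (438, 0, 438), (440, 0, 440), (442, 0, 442), (471, 1, 0), (481, 1, 1), (533, 1, 8), (553, 1, 11), (566, 1, 13), (578, 1, 15), (592, 1, 17), (632, 1, 26), (653, 1, 30), (665, 1, 32), (700, 1, 47), (511, 1, 63), (520, 1, 72), (769, 1, 78), (775, 1, 80), (777, 1, 82), (781, 1, 84), (790, 1, 89), (823, 1, 106), (863, 1, 147), (864, 1, 148), (608, 1, 160), (620, 1, 172), (881, 1, 186), (892, 1, 210), (803, 1, 355), (833, 1, 385), (893, 1, 445), (895, 1, 447), (158, 24, 30), (367, 12, 147), (269, 0, 158), (445,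 0, 367), (475, 1, 3), (571, 24, 38), (540, 24, 97), (616, 1, 38), (747, 12, 38), (245, 24, 2), (621, 1, 101), (166, 0, 166), (490, 12, 10), (508, 1, 10), (602, 13, 126), (758, 6, 63), (514, 24, 24), (675, 24, 25), (574, 1, 34), (598, 24, 157), (794, 1, 209), (562, 1, 24), (650, 1, 59), (814, 1, 150), (550, 24, 45), (193, 7, 130), (58, 13, 27), (523, 1, 20), (98, 0, 98), (290, 24, 82), (40, 0, 23), (403, 12, 2), (56, 24, 20), (112, 13, 173), (21, 19, 16), (557, 24, 44), (164, 24, 58), (420, 0, 333), (688, 7, 33), (610, 24, 172), (668, 7, 42), (564, 19, 157), (296, 24, 357), (629, 1, 44), (580, 19, 44), (551, 1, 71), (311, 19, 176), (500, 24, 57), (177, 24, 100), (176, 24, 103), (286, 19, 163), (163, 24, 116), (357, 0, 229), (618, 1, 40), (622, 19, 7), (100, 0, 100), (829, 19, 232), (819, 19, 241), (660, 1, 54), (725, 19, 30), (745, 24, 5), (730, 12, 269), (283, 13, 32), (559, 1, 52),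 (161, 12, 111), (61, 12, 160), (588, 13, 140), (222, 24, 113), (561, 24, 128), (81, 12, 172), (705, 19, 137), (600, 24, 54), (701, 13, 36), (607, 1, 61), (619, 12, 6), (237, 19, 142), (672, 19, 274), (692, 12, 238), (230, 19, 292), (251, 6, 47), (174, 6, 52), (292, 12, 88), (793, 24, 364), (666, 6, 130), (142, 12, 193), (853, 24, 208), (788, 13, 340), (288, 24, 78), (190, 0, 189), (867, 7, 324), (139, 0, 115), (291, 7, 99), (667, 12, 139), (337, 19, 63), (673, 1, 92), (816, 24, 140), (857, 1, 208), (789, 12, 130), (772, 1, 222), (279, 7, 139), (213, 13, 139), (310, 0, 225), (715, 19, 364), (652, 6, 72), (280, 6, 230), (854, 1, 204), (219, 0, 151), (818, 6, 151), (358, 19, 381), (759, 24, 202), (785, 13, 115), (827, 24, 215), (799, 1, 145), (366, 0, 337), (800, 1, 279), (424, 13, 99), (828, 6, 175), (806, 7, 210), (795, 12, 276), (295, 6, 118), (414, 12, 423), (890, 13, 442), (418,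 0, 295), (862, 19, 418), (419, 24, 210), (423, 0, 352), (774, 24, 295), (444, 19, 432), (255, 24, 146), (889, 6, 30), (886, 13, 279), (146, 24, 365), (432, 0, 419), (858, 12, 212), (873, 6, 441), (443, 6, 97), (327, 12, 432), (396, 24, 294), (866, 1, 411), (880, 19, 295), (749, 24, 115), (891, 7, 361), (871, 6, 277), (382, 6, 412), (325, 0, 313), (845, 12, 396), (321, 24, 94), (383, 24, 361), (797, 6, 325), (76, 6, 411), (808, 7, 191), (702, 24, 284), (104, 0, 64), (625, 13, 75), (639, 1, 191), (67, 6, 396), (732, 1, 165), (217, 19, 48), (798, 19, 318), (633, 6, 11), (754, 7, 103), (320, 12, 288), (807, 24, 61), (360, 24, 288), (117, 0, 67), (680, 6, 32), (838, 24, 417), (742, 19, 320), (693, 1, 46), (170, 6, 120), (183, 7, 75), (612, 1, 108), (298, 13, 59), (879, 6, 161), (434, 0, 360), (885, 12, 161), (882, 24, 129), (763, 6, 67), (346, 6, 209), (791, 13, 326), (409, 6, 208), (96,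 19, 38), (180, 0, 120), (628, 6, 229), (123, 12, 181), (181, 24, 124), (194, 6, 27), (376, 7, 306), (888, 24, 171), (447, 19, 319), (392, 12, 349), (741, 6, 19), (654, 7, 53), (631, 19, 244), (405, 0, 336), (353, 13, 309), (840, 1, 294), (168, 19, 184), (645, 24, 183), (750, 19, 96), (109, 19, 170), (515, 24, 181), (531, 6, 65), (167, 24, 185), (710, 24, 289), (169, 0, 131), (368, 6, 392), (162, 7, 102), (825, 1, 237), (740, 12, 52), (433, 0, 433), (689, 1, 117), (630, 12, 141), (413, 24, 240), (236, 24, 315), (307, 12, 105), (270, 19, 307), (226, 24, 105), (422, 12, 143), (406, 12, 174), (345, 19, 291), (437, 6, 380), (185, 6, 44), (756, 1, 183), (805, 1, 180), (426, 19, 60), (400, 6, 9), (877, 6, 132), (304, 7, 229), (770, 24, 133), (753, 24, 285), (132, 24, 3), (642, 24, 104), (820, 6, 258), (179, 24, 22), (872, 6, 10), (752, 24, 178), (591, 7, 89), (195, 13, 2), (224, 6, 218),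 (350, 7, 368), (399, 13, 299), (369, 24, 399), (377, 12, 207), (342, 19, 437), (647, 6, 51), (233, 6, 53), (830, 6, 308), (847, 6, 397), (428, 24, 89), (855, 24, 226), (127, 6, 90), (787, 12, 338), (861, 24, 368), (831, 6, 304), (729, 12, 284), (297, 24, 305), (846, 6, 245), (826, 6, 432), (874, 6, 5), (868, 6, 324), (379, 0, 379), (848, 6, 364), (870, 7, 117), (852, 6, 424), (778, 19, 46), (708, 19, 119), (242, 19, 329), (329, 19, 361), (197, 19, 420), (878, 6, 37), (356, 6, 314), (354, 24, 77), (375, 12, 409), (762, 13, 284), (786, 6, 374), (387, 6, 33), (842, 7, 79), (711, 7, 205), (586, 24, 127), (843, 6, 42), (713, 6, 139), (391, 24, 274), (247, 6, 2), (265, 6, 128), (739, 19, 136), (363, 19, 216), (883, 6, 236), (887, 12, 408), (264, 6, 108), (253, 6, 146), (802, 6, 297), (243, 12, 167), (875, 6, 81), (834, 1, 246), (435, 13, 294), (699, 1, 251), (712, 12, 200), (817, 12, 251),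 (716, 12, 358), (343, 12, 402), (402, 13, 215), (850, 19, 261), (869, 1, 223), (388, 6, 59), (384, 12, 94), (876, 1, 376), (421, 6, 150), (884, 13, 428), (849, 6, 243), (344, 19, 363), (822, 7, 236), (267, 6, 115), (841, 6, 60), (335, 6, 116), (330, 6, 248), (851, 6, 163), (231, 6, 256), (323, 6, 148), (782, 6, 18), (722, 12, 144), (416, 7, 339), (894, 19, 401), (430, 12, 373), (707, 12, 387), (394, 13, 250), (386, 6, 317)]
  cons := [(0, 0), (0, 21), (0, 36), (0, 77), (0, 83), (0, 96), (0, 102), (0, 127), (0, 134), (0, 156), (2, 0), (3, 0), (4, 0), (5, 0), (8, 0), (9, 0), (10, 0), (11, 0), (14, 0), (15, 0), (16, 0), (17, 0), (18, 0), (20, 0), (21, 0), (22, 0), (23, 0)]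
  combs := [[0], [0, 2, 3, 5, 6, 7, 8], [0, 2, 3, 5, 6, 7, 8, 10], [0, 2, 3, 5, 6, 7, 8, 11], [2, 3, 5, 6, 7, 8, 12], [0, 2, 3, 5, 6, 7, 8, 13], [0, 2, 3, 5, 6, 8, 9], [1, 3, 5, 7, 8], [0, 6, 14], [0, 1, 2, 5, 6, 8, 9, 15], [1, 2, 3, 5, 8, 9, 16], [2, 3, 6, 7, 8, 17], [0, 5, 6, 7, 8], [7, 8], [0, 18], [3, 4, 9, 19], [0, 1, 2, 3, 4, 5, 6, 7, 20], [0, 2, 3, 5, 6, 7, 8, 21], [2, 5, 22], [1, 3, 7, 8], [2, 3, 5, 6, 7, 8, 23], [0, 1, 3, 7, 9, 24], [0, 3, 5, 6, 7, 8, 25], [1, 3, 4, 7, 9, 26], [3, 5, 6], [3, 4, 5, 6, 7, 8, 9], [1, 3, 6, 7]]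

/-- The alternating lift inside the cover. -/
def pathA : ℕ → List ℕ := fun i => if Nat.beq i 0 then [23, 0, 25, 0] else [0, 0, 30, 5]

/-- The three-local subgroup inside the cover. -/
def pathH : ℕ → List ℕ := fun i => if Nat.beq i 0 then [42, 12, 32, 1] else [61, 29, 20, 0]

/-- The generators as commutators. -/
def comG : List (List ℕ) := [[27, 55, 22, 1], [28, 7, 22, 5], [28, 39, 20, 0], [50, 45, 30, 5]]

/-- The generators of the alternating lift as commutators. -/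
def comA : List (List ℕ) := [[5, 0, 5, 0], [5, 0, 10, 1], [9, 0, 38, 0], [15, 0, 29, 2]]

/-- The central elements. -/
def tauTab : List ℕ := [t1164, t1165, t1166]

/-- Their paths. -/
def tauPath : List (List ℕ) := [[56, 56, 20, 2], [0, 63, 11, 1], [0, 0, 38, 1]]

/-- The matrices of the generators. -/
def matTab : ℕ → List ℕ := fun i => if Nat.beq i 0 then [1, 0, 3, 0, 1, 2, 0, 3, 0] else [0, 3, 2, 2, 0, 1, 2, 1, 3]

/-- Words for the transvections. -/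
def transWords : List (List ℕ) := [
  [],
  [],
  [],
  [],
  [],
  [0, 1, 0, 1, 1, 0, 0, 1, 1, 0, 0, 1, 1, 0, 0, 1, 0, 1, 1, 0, 1],
  [1, 1, 0, 1, 1, 1, 0, 1, 1, 0, 1, 1, 0, 1, 1, 1, 1, 0, 1],
  [0, 0, 1, 0, 0, 1, 0, 1, 1, 0, 1, 1, 0, 0, 1, 0, 1, 1, 1, 0],
  [],
  [1, 0, 0, 1, 0, 1, 1, 0, 1, 1, 0, 0, 1, 0, 1, 1, 1],
  [1, 1, 0, 1, 1, 0, 1, 1, 0, 1, 0, 0, 1, 0, 0, 1, 0, 1, 1, 1],
  [1, 1, 0, 1, 1, 0, 1, 1, 0, 1, 1, 0, 0, 1, 1, 0, 1, 0],
  [],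
  [1, 1, 0, 1, 1, 1, 0, 1, 1, 1, 0, 1, 1, 0, 0, 1, 1],
  [1, 0, 1, 1, 1, 0, 0, 1, 1, 0, 0, 1, 1, 0, 1, 0, 0, 1, 0, 0],
  [1, 0, 0, 1, 0, 0, 1, 1, 0, 0, 1, 1, 0, 0, 1, 0, 1, 1, 0, 0],
  [],
  [],
  [],
  [],
  [],
  [0, 1, 1, 1, 0, 1, 0, 0, 1, 1, 0, 1, 1, 0, 1, 1, 0, 1, 1, 1],
  [0, 1, 0, 0, 1, 1, 0, 0, 1, 0, 0, 1, 0, 1, 1, 0, 1, 1, 1, 0, 1],
  [1, 1, 0, 1, 1, 0, 1, 1, 0, 0, 1, 1, 1, 0, 1, 1, 0, 1],
  [],
  [0, 0, 1, 0, 1, 1, 1, 0, 0, 1, 0, 0, 1, 1, 0, 0, 1, 0, 0, 1, 0],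
  [0, 1, 1, 1, 0, 1, 1, 0, 1, 1, 0, 1, 1, 1, 1, 0, 1, 1, 1],
  [1, 1, 0, 1, 1, 0, 1, 1, 0, 1, 1, 1, 1, 0, 1, 1, 1, 0, 1],
  [],
  [0, 1, 0, 0, 1, 1, 0, 0, 1, 1, 0, 0, 1, 1, 0, 1, 1, 1, 0, 0],
  [0, 0, 1, 0, 0, 1, 0, 0, 1, 1, 1, 0, 0, 1, 1, 0, 0, 1, 1],
  [1, 0, 1, 1, 0, 1, 1, 1, 0, 1, 1, 1, 0, 1, 0, 0, 1, 1, 0, 1, 0],
  [],
  [],
  [],
  []]

end Cfsg.Lib.LThreeFour
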