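import Cfsg.Agent.Lib.LThreeFour.Matrices
import Cfsg.Agent.Lib.Schur.CoverBound
import Cfsg.Agent.Lib.Schur.Universe

/-!
# The Schur multiplier of the projective linear group of dimension three over four elements
-/

set_option autoImplicit false
set_option maxRecDepth 8000
set_option linter.style.haveILetI false

namespace Cfsg.Lib.LThreeFour

open Cfsg.Lib.Concrete

/-- The product of powers of the central elements. -/
noncomputable def cen (a : ZMod 3 × ZMod 4 × ZMod 4) : Gam :=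
  tau 0 ^ a.1.val * (tau 1 ^ a.2.1.val * tau 2 ^ a.2.2.val)

theorem cen_add (a b : ZMod 3 × ZMod 4 × ZMod 4) : cen (a + b) = cen a * cen b := by
  have h : ∀ (k : Fin 3) (n : ℕ) [NeZero n] (x y : ZMod n), tau k ^ n = 1 →
      tau k ^ (x + y).val = tau k ^ x.val * tau k ^ y.val := fun k n _ x y e => by
    rw [ZMod.val_add, ← pow_add, ← pow_eq_pow_mod _ e]
  simp only [cen, Prod.fst_add, Prod.snd_add]
  rw [h 0 3 _ _ (tau_pow 0), h 1 4 _ _ (tau_pow 1), h 2 4 _ _ (tau_pow 2)]
  have c0 : ∀ (n : ℕ) (g : Gam), tau 0 ^ n * g = g * tau 0 ^ n := fun n g => ((tau_comm 0 g).pow_left n).eq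
  have c1 : ∀ (n : ℕ) (g : Gam), tau 1 ^ n * g = g * tau 1 ^ n := fun n g => ((tau_comm 1 g).pow_left n).eq
  calc tau 0 ^ a.1.val * tau 0 ^ b.1.val * (tau 1 ^ a.2.1.val * tau 1 ^ b.2.1.val *
          (tau 2 ^ a.2.2.val * tau 2 ^ b.2.2.val))
        = tau 0 ^ a.1.val * (tau 0 ^ b.1.val * (tau 1 ^ a.2.1.val * (tau 1 ^ b.2.1.val * tau 2 ^ a.2.2.val))) *
            tau 2 ^ b.2.2.val := by simp only [mul_assoc]
      _ = tau 0 ^ a.1.val * (tau 1 ^ a.2.1.val * (tau 2 ^ a.2.2.val * tau 1 ^ b.2.1.val) * tau 0 ^ b.1.val) *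
            tau 2 ^ b.2.2.val := by rw [c0 b.1.val, c1 b.2.1.val]
      _ = _ := by
        simp only [mul_assoc]
        rw [← mul_assoc (tau 1 ^ b.2.1.val) (tau 0 ^ b.1.val), ← c0, mul_assoc]

theorem multiplier {F : Type*} [Field F] [Fintype F] (hF : Fintype.card F = 4) :
    Cfsg.HasSchurMultiplier (Matrix.ProjectiveSpecialLinearGroup (Fin 3) F)
      (Multiplicative (ZMod 3 × ZMod 4 × ZMod 4)) := by
  obtain ⟨z, hz⟩ := exists_root (F := F) hF
  obtain ⟨σ, hσ, htau⟩ := exists_hom hz hF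
  have hmem : ∀ a, cen a ∈ σ.ker := fun a => by
    simp [cen, MonoidHom.mem_ker, htau]
  let f : Multiplicative (ZMod 3 × ZMod 4 × ZMod 4) →* σ.ker :=
    MonoidHom.mk' (fun a => ⟨cen a.toAdd, hmem _⟩) fun a b => Subtype.ext (cen_add a.toAdd b.toAdd)
  have hinj : Function.Injective f := (injective_iff_map_eq_one f).2 fun a ha => by
    obtain ⟨h1, h2, h3⟩ := kernel_faithful (ZMod.val_lt a.toAdd.1) (ZMod.val_lt a.toAdd.2.1)
      (ZMod.val_lt a.toAdd.2.2) (congrArg Subtype.val ha)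
    rw [ZMod.val_eq_zero] at h1 h2 h3
    exact Multiplicative.toAdd.injective (Prod.ext h1 (Prod.ext h2 h3))
  have hcard : Nat.card σ.ker = 48 := by
    have h := σ.ker.card_mul_index
    rw [Subgroup.index_ker, MonoidHom.range_eq_top.2 hσ, Subgroup.card_top,
      Cfsg.Lib.TwoFour.LThreeFour.card_G3 hF, card_Gam] at h
    omega
  have hf : Function.Bijective f := hinj.bijective_of_nat_card_le (by rw [hcard]; simp)
  have hcen : σ.ker ≤ Subgroup.center Gam := fun g hg => by
    obtain ⟨a, ha⟩ := hf.2 ⟨g, hg⟩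
    rw [show g = cen a.toAdd from (congrArg Subtype.val ha).symm]
    exact mul_mem (pow_mem (tau_mem_center 0) _) (mul_mem (pow_mem (tau_mem_center 1) _) (pow_mem (tau_mem_center 2) _))
  have hstem : Cfsg.IsStemExtension (QuotientGroup.mk' σ.ker) :=
    ⟨QuotientGroup.mk'_surjective _, by rwa [QuotientGroup.ker_mk'], by rw [perfect_Gam]; exact le_top⟩
  refine Cfsg.Lib.Schur.hasSchur_of_equiv (QuotientGroup.quotientKerEquivOfSurjective σ hσ)
    (Cfsg.Lib.Schur.hasSchurMultiplier_of_cover ?_ hstem noStem_Gam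
      ((MulEquiv.subgroupCongr (QuotientGroup.ker_mk' σ.ker)).trans (MulEquiv.ofBijective f hf).symm))
  rw [commutator_def, ← Subgroup.map_top_of_surjective _ (QuotientGroup.mk'_surjective σ.ker),
    ← Subgroup.map_commutator, ← commutator_def, perfect_Gam]

end Cfsg.Lib.LThreeFour
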