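import Cfsg.Agent.Lib.LThreeFour.Cover
import Cfsg.Agent.Lib.TwoFour.CoverLThreeFour
import Cfsg.Agent.Lib.Linear.SLBasic

/-!
# The cover maps onto the projective linear group of dimension three over four elements
-/

set_option autoImplicit false
set_option maxRecDepth 8000
set_option linter.unusedSimpArgs false
set_option linter.unusedSectionVars false
set_option linter.style.haveILetI false

namespace Cfsg.Lib.LThreeFour

open Cfsg.Lib.PermAut Cfsg.Lib.Concrete Matrix

/-- The product of two codes. -/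
def gm (a b : ℕ) : ℕ := ([[0, 0, 0, 0], [0, 1, 2, 3], [0, 2, 3, 1], [0, 3, 1, 2]].getD (a % 4) []).getD (b % 4) 0

/-- An entry of a code matrix. -/
def entC (M : List ℕ) (i j : ℕ) : ℕ := M.getD (3 * i + j) 0

/-- The product of two code matrices. -/
def mulC (A B : List ℕ) : List ℕ := (List.range 9).map fun n =>
  Nat.xor (Nat.xor (gm (entC A (n / 3) 0) (entC B 0 (n % 3))) (gm (entC A (n / 3) 1) (entC B 1 (n % 3))))
    (gm (entC A (n / 3) 2) (entC B 2 (n % 3)))

/-- The code matrix of a word. -/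
def mWord (W : List ℕ) : List ℕ := W.foldr (fun i M => mulC (matTab (i % 2)) M) [1, 0, 0, 0, 1, 0, 0, 0, 1]

/-- The code of a transvection. -/
def tvC (i j c : ℕ) : List ℕ := (List.range 9).map fun n =>
  if Nat.beq n (3 * i + j) then c else if Nat.beq (n / 3) (n % 3) then 1 else 0

/-- A coordinate of a vector. -/
def dc (x r : ℕ) : ℕ := (x + 1) / 4 ^ r % 4

theorem tv_words : ∀ i j : Fin 3, i ≠ j → ∀ c : Fin 4, (c : ℕ) ≠ 0 →
    mWord (transWords.getD (12 * (i : ℕ) + 4 * j + c) []) = tvC i j c := by decide +kernel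

theorem det_code : ∀ i : Fin 2, ∀ f : List ℕ, f = matTab i →
    Nat.xor (Nat.xor (Nat.xor (gm (gm (entC f 0 0) (entC f 1 1)) (entC f 2 2))
        (gm (gm (entC f 0 0) (entC f 1 2)) (entC f 2 1)))
      (Nat.xor (gm (gm (entC f 0 1) (entC f 1 0)) (entC f 2 2)) (gm (gm (entC f 0 1) (entC f 1 2)) (entC f 2 0))))
      (Nat.xor (gm (gm (entC f 0 2) (entC f 1 0)) (entC f 2 1)) (gm (gm (entC f 0 2) (entC f 1 1)) (entC f 2 0))) = 1 := by
  intro i f hf
  subst hf
  revert i
  decide +kernel

theorem gen_linear : ((List.range 2).all fun i => (List.range 63).all fun x =>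
    Nat.blt (ent 9 (subG.gen i) x) 63 && (List.range 3).all fun r =>
      Nat.beq (Nat.xor (Nat.xor (gm (entC (matTab i) r 0) (dc x 0)) (gm (entC (matTab i) r 1) (dc x 1)))
        (gm (entC (matTab i) r 2) (dc x 2))) (dc (ent 9 (subG.gen i) x) r)) = true := by decide +kernel

/-- The scalar of a central element. -/
def tauS (k : ℕ) : ℕ := if Nat.beq k 0 then 2 else 1

theorem tau_linear : ∀ k : Fin 3, ∀ s : Fin 3, ∀ r : Fin 3,
    dc (ev 9 (tauL k) (4 ^ (s : ℕ) - 1)) r = if r = s then tauS k else 0 := by decide +kernel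

theorem unit_idx : ∀ s r : Fin 3, 4 ^ (s : ℕ) - 1 < 63 ∧ dc (4 ^ (s : ℕ) - 1) r = if r = s then 1 else 0 := by
  decide +kernel

theorem gm_table : ∀ a b : Fin 4, gm a b =
    ([[0, 0, 0, 0], [0, 1, 2, 3], [0, 2, 3, 1], [0, 3, 1, 2]].getD a []).getD b 0 := by decide +kernel

universe u

variable {F : Type u} [Field F] (z : F)

/-- The element of a code. -/
def ofC (a : ℕ) : F := (if a.testBit 0 then 1 else 0) + (if a.testBit 1 then z else 0)

/-- The hypothesis on the generator of the field. -/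
structure Root : Prop where
  two : (2 : F) = 0
  sq : z * z = z + 1

variable {z}

theorem ofC_mod (a : ℕ) : ofC z (a % 4) = ofC z a := by
  rw [ofC, ofC, show a % 4 = a % 2 ^ 2 from rfl]
  simp only [Nat.testBit_mod_two_pow]
  simp

theorem ofC_zero : ofC z 0 = 0 := by simp [ofC]

theorem ofC_one : ofC z 1 = 1 := by simp [ofC, Nat.testBit, Nat.shiftRight_eq_div_pow]

theorem ofC_two : ofC z 2 = z := by simp [ofC, Nat.testBit, Nat.shiftRight_eq_div_pow]

theorem ofC_three : ofC z 3 = 1 + z := by simp [ofC, Nat.testBit, Nat.shiftRight_eq_div_pow]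

theorem Root.xor (hz : Root z) (a b : ℕ) : ofC z (Nat.xor a b) = ofC z a + ofC z b := by
  have key : ∀ (t : F) (p q : Bool), (if (p ^^ q) then t else 0) = (if p then t else 0) + (if q then t else 0) := by
    intro t p q
    cases p <;> cases q <;> simp
    linear_combination -(t * hz.two)
  simp only [ofC, show Nat.xor a b = a ^^^ b from rfl, Nat.testBit_xor, key]
  ring

theorem Root.mul (hz : Root z) (a b : ℕ) : ofC z (gm a b) = ofC z a * ofC z b := by
  have hm : gm a b = gm (a % 4) (b % 4) := by simp [gm, Nat.mod_mod]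
  rw [hm, ← ofC_mod a, ← ofC_mod b]
  have ha := Nat.mod_lt a (show 4 > 0 by norm_num)
  have hb := Nat.mod_lt b (show 4 > 0 by norm_num)
  generalize a % 4 = A at *
  generalize b % 4 = B at *
  have h2 := hz.two
  have hs := hz.sq
  interval_cases A <;> interval_cases B <;>
    simp only [gm, Nat.reduceMod, List.getD_cons_zero, List.getD_cons_succ, ofC_zero, ofC_one, ofC_two, ofC_three] <;>
    first
      | ring1
      | linear_combination -hs
      | linear_combination -hs - z * h2
      | linear_combination -hs - h2 - z * h2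
      | linear_combination -hs - h2

/-- The matrix of a code. -/
def toMat (z : F) (M : List ℕ) : Matrix (Fin 3) (Fin 3) F := Matrix.of fun i j => ofC z (entC M i j)

theorem Root.toMat_mul (hz : Root z) (A B : List ℕ) : toMat z (mulC A B) = toMat z A * toMat z B := by
  ext i j
  simp only [toMat, Matrix.mul_apply, Matrix.of_apply, Fin.sum_univ_three]
  have e : entC (mulC A B) i j =
      Nat.xor (Nat.xor (gm (entC A i 0) (entC B 0 j)) (gm (entC A i 1) (entC B 1 j)))
        (gm (entC A i 2) (entC B 2 j)) := by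
    fin_cases i <;> fin_cases j <;> simp [entC, mulC, List.getD_eq_getElem?_getD]
  rw [e, hz.xor, hz.xor, hz.mul, hz.mul, hz.mul]
  simp only [Fin.val_zero, Fin.val_one, Fin.val_two]

theorem toMat_one : toMat z [1, 0, 0, 0, 1, 0, 0, 0, 1] = 1 := by
  ext i j
  fin_cases i <;> fin_cases j <;> simp [toMat, entC, ofC, Nat.testBit, Nat.shiftRight_eq_div_pow]

variable (hz : Root z)
include hz

theorem det_mat (i : Fin 2) : (toMat z (matTab i)).det = 1 := by
  have e := congrArg (ofC z) (det_code i _ rfl)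
  simp only [hz.xor, hz.mul, ofC_one] at e
  have hn : ∀ t : F, -t = t := fun t => by linear_combination -(t * hz.two)
  rw [← e, Matrix.det_fin_three]
  simp only [sub_eq_add_neg, hn, toMat, Matrix.of_apply, Fin.val_zero, Fin.val_one, Fin.val_two]
  ring

/-- A generator as a matrix. -/
def sM (i : Fin 2) : Matrix.SpecialLinearGroup (Fin 3) F := ⟨toMat z (matTab i), det_mat hz i⟩

/-- A vector. -/
def vecOf (z : F) (x : ℕ) : Fin 3 → F := fun r => ofC z (dc x r)

/-- The linked pairs. -/
noncomputable abbrev Link : Subgroup (Matrix.SpecialLinearGroup (Fin 3) F × Gam) :=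
  Subgroup.closure (Set.range fun i : Fin 2 => (sM hz i, gen i))

theorem vecOf_unit (s : Fin 3) : vecOf z (4 ^ (s : ℕ) - 1) = Pi.single s 1 := by
  funext r
  rw [vecOf, (unit_idx s r).2]
  by_cases h : r = s
  · subst h; rw [if_pos rfl, ofC_one, Pi.single_eq_same]
  · rw [if_neg h, ofC_zero, Pi.single_eq_of_ne h]

variable [Fintype F]

theorem link_mem {p : Matrix.SpecialLinearGroup (Fin 3) F × Gam} (hp : p ∈ Link hz) (x : Fin 511) (hx : (x : ℕ) < 63) :
    ((p.2 : Equiv.Perm (Fin 511)) x : ℕ) < 63 ∧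
      (p.1 : Matrix (Fin 3) (Fin 3) F) *ᵥ vecOf z x = vecOf z ((p.2 : Equiv.Perm (Fin 511)) x) := by
  have hp' : p ∈ Submonoid.closure (Set.range fun i : Fin 2 => (sM hz i, gen i)) := by
    rw [← Subgroup.closure_toSubmonoid_of_finite]; exact hp
  clear hp
  induction hp' using Submonoid.closure_induction generalizing x with
  | mem q hq =>
    obtain ⟨i, rfl⟩ := hq
    have h := gen_linear
    simp only [List.all_eq_true, List.mem_range, Bool.and_eq_true, Nat.blt, Nat.ble_eq, Nat.beq_eq] at h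
    obtain ⟨h1, h2⟩ := h i i.isLt x hx
    refine ⟨by rw [gen_apply]; exact h1, ?_⟩
    funext r
    rw [gen_apply, vecOf, ← h2 r r.isLt, hz.xor, hz.xor, hz.mul, hz.mul, hz.mul]
    show (toMat z (matTab i) *ᵥ vecOf z x) r = _
    simp [Matrix.mulVec, dotProduct, Fin.sum_univ_three, toMat, vecOf]
  | one => exact ⟨hx, by simp⟩
  | mul a b _ _ ha hb =>
    obtain ⟨b1, b2⟩ := hb x hx
    obtain ⟨a1, a2⟩ := ha _ b1
    exact ⟨a1, by rw [Prod.fst_mul, Matrix.SpecialLinearGroup.coe_mul, ← Matrix.mulVec_mulVec, b2, a2]; rfl⟩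

theorem fst_of_snd {p : Matrix.SpecialLinearGroup (Fin 3) F × Gam} (hp : p ∈ Link hz) (c : ℕ)
    (h : ∀ s r : Fin 3, dc ((p.2 : Equiv.Perm (Fin 511)) ⟨4 ^ (s : ℕ) - 1, by have := (unit_idx s 0).1; omega⟩) r =
      if r = s then c else 0) : (p.1 : Matrix (Fin 3) (Fin 3) F) = Matrix.scalar (Fin 3) (ofC z c) := by
  refine Matrix.ext fun r s => ?_
  have e := congrFun (link_mem hz hp ⟨4 ^ (s : ℕ) - 1, by have := (unit_idx s 0).1; omega⟩ (unit_idx s 0).1).2 r
  rw [show (((⟨4 ^ (s : ℕ) - 1, by have := (unit_idx s 0).1; omega⟩ : Fin 511)) : ℕ) = 4 ^ (s : ℕ) - 1 from rfl,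
    vecOf_unit hz, Matrix.mulVec_single_one] at e
  rw [show (p.1 : Matrix (Fin 3) (Fin 3) F) r s = _ from e, vecOf, h]
  by_cases hrs : r = s
  · subst hrs; simp
  · rw [if_neg hrs, ofC_zero]; simp [hrs]

theorem snd_injective : Function.Injective ((MonoidHom.snd _ _).comp (Link hz).subtype) := by
  refine (injective_iff_map_eq_one _).2 fun p hp => Subtype.ext (Prod.ext ?_ hp)
  have hp' : (p : Matrix.SpecialLinearGroup (Fin 3) F × Gam).2 = 1 := hp
  refine Subtype.ext ?_
  rw [fst_of_snd hz p.2 1 (fun s r => ?_), ofC_one, map_one]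
  · rfl
  · rw [hp']; exact (unit_idx s r).2

theorem snd_surjective : Function.Surjective ((MonoidHom.snd _ _).comp (Link hz).subtype) := by
  rw [← MonoidHom.range_eq_top, MonoidHom.range_comp, Subgroup.range_subtype, MonoidHom.map_closure, ← Set.range_comp]
  exact gen_closure

theorem fst_word (W : List ℕ) : ∃ p : ↥(Link hz),
    ((p : Matrix.SpecialLinearGroup (Fin 3) F × Gam).1 : Matrix (Fin 3) (Fin 3) F) = toMat z (mWord W) := by
  induction W with
  | nil => exact ⟨1, by simp [mWord, toMat_one]⟩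
  | cons i W ih =>
    obtain ⟨p, hp⟩ := ih
    refine ⟨⟨_, Subgroup.subset_closure ⟨⟨i % 2, Nat.mod_lt _ two_pos⟩, rfl⟩⟩ * p, ?_⟩
    rw [Subgroup.coe_mul, Prod.fst_mul, Matrix.SpecialLinearGroup.coe_mul, hp,
      show mWord (i :: W) = mulC (matTab (i % 2)) (mWord W) from rfl, hz.toMat_mul]
    rfl

variable (hF : Fintype.card F = 4)
include hF

theorem ofC_surjective (v : F) : ∃ a : Fin 4, ofC z a = v := by
  have h2 := hz.two
  have hs := hz.sq
  have hinj : Function.Injective fun a : Fin 4 => ofC z a := by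
    intro a b h
    by_contra hne
    have h10 : (1 : F) ≠ 0 := one_ne_zero
    have hz0 : z ≠ 0 := fun e => h10 (by rw [e] at hs; linear_combination -hs)
    have hz1 : z ≠ 1 := fun e => h10 (by rw [e] at hs; linear_combination -hs)
    have hz3 : 1 + z ≠ 0 := fun e => hz1 (by linear_combination e - h2)
    have hz4 : 1 + z ≠ 1 := fun e => hz0 (by linear_combination e)
    have hz5 : 1 + z ≠ z := fun e => h10 (by linear_combination e)
    fin_cases a <;> fin_cases b <;>
      simp only [Fin.zero_eta, Fin.mk_one, Fin.val_zero, Fin.val_one, ofC_zero, ofC_one, ofC_two, ofC_three] at h <;>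
      first
        | exact hne rfl
        | exact h10 h
        | exact h10 h.symm
        | exact hz0 h
        | exact hz0 h.symm
        | exact hz1 h
        | exact hz1 h.symm
        | exact hz3 h
        | exact hz3 h.symm
        | exact hz4 h
        | exact hz4 h.symm
        | exact hz5 h
        | exact hz5 h.symm
  exact ((Fintype.bijective_iff_injective_and_card _).2 ⟨hinj, by rw [Fintype.card_fin, hF]⟩).2 v

theorem fst_surjective : Function.Surjective ((MonoidHom.fst _ _).comp (Link hz).subtype) := by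
  rw [← MonoidHom.range_eq_top, ← top_le_iff, ← Cfsg.Lib.Linear.closure_transvection_eq_top (ι := Fin 3) (F := F),
    Subgroup.closure_le]
  rintro _ ⟨i, j, hij, c, rfl⟩
  obtain ⟨a, rfl⟩ := ofC_surjective hz hF c
  by_cases ha : (a : ℕ) = 0
  · refine ⟨1, Subtype.ext ?_⟩
    rw [map_one, Matrix.SpecialLinearGroup.coe_one, Matrix.SpecialLinearGroup.transvection_coe, ha, ofC_zero]
    simp
  obtain ⟨p, hp⟩ := fst_word hz (transWords.getD (12 * (i : ℕ) + 4 * j + a) [])
  refine ⟨p, Subtype.ext ?_⟩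
  show ((p : Matrix.SpecialLinearGroup (Fin 3) F × Gam).1 : Matrix (Fin 3) (Fin 3) F) = _
  rw [hp, tv_words i j hij a ha, Matrix.SpecialLinearGroup.transvection_coe]
  ext r s
  fin_cases i <;> fin_cases j <;> fin_cases r <;> fin_cases s <;>
    simp [toMat, entC, tvC, ofC_one, ofC_zero, Matrix.one_apply, Matrix.single_apply] at hij ⊢

theorem exists_hom : ∃ σ : Gam →* Matrix.ProjectiveSpecialLinearGroup (Fin 3) F,
    Function.Surjective σ ∧ ∀ k : Fin 3, σ (tau k) = 1 := by
  let e := MulEquiv.ofBijective _ ⟨snd_injective hz, snd_surjective hz⟩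
  let ρ : Gam →* Matrix.SpecialLinearGroup (Fin 3) F :=
    ((MonoidHom.fst _ _).comp (Link hz).subtype).comp e.symm.toMonoidHom
  refine ⟨(QuotientGroup.mk' _).comp ρ,
    (QuotientGroup.mk'_surjective _).comp ((fst_surjective hz hF).comp e.symm.surjective), fun k => ?_⟩
  show ((ρ (tau k) : Matrix.SpecialLinearGroup (Fin 3) F) : Matrix.ProjectiveSpecialLinearGroup (Fin 3) F) = 1
  set p := e.symm (tau k) with hp
  have h2 : (p : Matrix.SpecialLinearGroup (Fin 3) F × Gam).2 = tau k := e.apply_symm_apply (tau k)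
  have h1 := fst_of_snd hz p.2 (tauS k) (fun s r => by rw [h2, tau_apply]; exact tau_linear k s r)
  refine (QuotientGroup.eq_one_iff _).2 (Matrix.SpecialLinearGroup.mem_center_iff.2 ⟨ofC z (tauS k), ?_, h1.symm⟩)
  have hd := (p : Matrix.SpecialLinearGroup (Fin 3) F × Gam).1.2
  rw [h1] at hd
  simpa using hd

omit hz in
theorem exists_root : ∃ z : F, Root z := by
  classical
  have h2 : (2 : F) = 0 := Cfsg.Lib.TwoFour.LThreeFour.two_zero hF
  obtain ⟨u, -, hu⟩ := Finset.exists_mem_notMem_of_card_lt_card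
    (s := ({0, 1} : Finset F)) (t := Finset.univ) (by rw [Finset.card_univ, hF]; exact Finset.card_le_two.trans_lt (by norm_num))
  simp only [Finset.mem_insert, Finset.mem_singleton, not_or] at hu
  obtain ⟨hu0, hu1⟩ := hu
  have h3 : u ^ 3 = 1 := by
    have := FiniteField.pow_card_sub_one_eq_one u hu0
    rwa [hF] at this
  have h : (u - 1) * (u * u + u + 1) = 0 := by linear_combination h3
  exact ⟨u, h2, by linear_combination (mul_eq_zero.1 h).resolve_left (sub_ne_zero.2 hu1) - (u + 1) * h2⟩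

end Cfsg.Lib.LThreeFour
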